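import Mathlib.AlgebraicGeometry.Stalk
import Mathlib.AlgebraicGeometry.Morphisms.Affine
import Mathlib.CategoryTheory.Filtered.Final

/-!
# `Spec O_{S,s}` is the limit of the affine open neighbourhoods of `s`

* `D S s : Nhd S s ⥤ Scheme`: the cofiltered diagram of affine open neighbourhoods;
* `cone S s : Cone (D S s)` with point `Spec O_{S,s}`, `cone_π_ι`, `isLimit`.
-/

set_option autoImplicit false
universe u

open CategoryTheory CategoryTheory.Limits AlgebraicGeometry TopologicalSpace Opposite

namespace K248.StalkLim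

variable (S : Scheme.{u}) (s : S)

/-- Affine open neighbourhoods of a point, ordered by inclusion. -/
abbrev Nhd : Type u := {V : S.Opens // IsAffineOpen V ∧ s ∈ V}

instance : Nonempty (Nhd S s) := by
  obtain ⟨V, hV, hx, -⟩ := exists_isAffineOpen_mem_and_subset (x := s) (U := ⊤) trivial
  exact ⟨⟨V, hV, hx⟩⟩

instance : IsCodirectedOrder (Nhd S s) := ⟨fun V W => by
  obtain ⟨Z, hZ, hx, hle⟩ := exists_isAffineOpen_mem_and_subset (x := s) (U := V.1 ⊓ W.1)
    ⟨V.2.2, W.2.2⟩
  exact ⟨⟨Z, hZ, hx⟩, fun _ h => (hle h).1, fun _ h => (hle h).2⟩⟩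

/-- The inclusion into all open neighbourhoods. -/
def incl : Nhd S s ⥤ OpenNhds s where
  obj V := ⟨V.1, V.2.2⟩
  map h := homOfLE h.le

instance : (incl S s).Initial := by
  refine Functor.initial_of_exists_of_isCofiltered _ ?_ ?_
  · intro U
    obtain ⟨Z, hZ, hx, hle⟩ := exists_isAffineOpen_mem_and_subset (x := s) (U := U.1) U.2
    exact ⟨⟨Z, hZ, hx⟩, ⟨homOfLE hle⟩⟩
  · intro U V a b
    exact ⟨V, 𝟙 _, Subsingleton.elim _ _⟩

/-- The diagram of affine open neighbourhoods. -/
@[simps] noncomputable def D : Nhd S s ⥤ Scheme.{u} where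
  obj V := V.1
  map {V W} h := S.homOfLE (U := V.1) (V := W.1) h.le
  map_id _ := by simp
  map_comp _ _ := by simp

instance isAffine_obj (V : Nhd S s) : IsAffine ((D S s).obj V) := V.2.1

/-- The rings of functions of the affine open neighbourhoods. -/
abbrev F : (Nhd S s)ᵒᵖ ⥤ CommRingCat.{u} :=
  (incl S s).op ⋙ (OpenNhds.inclusion s).op ⋙ S.presheaf

/-- The colimit cocone of the stalk over the affine neighbourhoods. -/
noncomputable abbrev cocone : Cocone (F S s) :=
  Cocone.whisker (incl S s).op (colimit.cocone (((OpenNhds.inclusion s).op ⋙ S.presheaf)))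

/-- The stalk is the colimit over the affine neighbourhoods. -/
noncomputable def isColimitStalk : IsColimit (cocone S s) :=
  (Functor.Final.isColimitWhiskerEquiv _ _).symm (colimit.isColimit _)

lemma nat_aux {V W : Nhd S s} (h : V ⟶ W) :
    Spec.map (S.presheaf.map (homOfLE h.le : V.1 ⟶ W.1).op) ≫ W.2.1.isoSpec.inv =
      V.2.1.isoSpec.inv ≫ S.homOfLE (U := V.1) (V := W.1) h.le := by
  rw [← cancel_mono (Scheme.Opens.ι W.1), Category.assoc, Category.assoc, Scheme.homOfLE_ι,
    IsAffineOpen.isoSpec_inv_ι, IsAffineOpen.isoSpec_inv_ι]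
  exact W.2.1.map_fromSpec V.2.1 _

/-- The diagram of affine neighbourhoods is the diagram of spectra. -/
noncomputable def iso : (F S s).rightOp ⋙ Scheme.Spec ≅ D S s :=
  NatIso.ofComponents (fun V => (V.2.1.isoSpec.symm : Spec _ ≅ (V.1 : Scheme.{u})))
    (fun {V W} h => nat_aux S s h)

lemma mem_range (V : Nhd S s) : Set.range (S.fromSpecStalk s) ⊆ Set.range (Scheme.Opens.ι V.1) := by
  rw [Scheme.range_fromSpecStalk, Scheme.Opens.range_ι]
  intro x hx
  exact hx.mem_open V.1.2 V.2.2

/-- The canonical morphism from `Spec O_{S,s}` to an affine open neighbourhood of `s`. -/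
noncomputable def leg (V : Nhd S s) : Spec (S.presheaf.stalk s) ⟶ (V.1 : Scheme.{u}) :=
  IsOpenImmersion.lift (Scheme.Opens.ι V.1) (S.fromSpecStalk s) (mem_range S s V)

@[reassoc (attr := simp)]
lemma leg_ι (V : Nhd S s) : leg S s V ≫ Scheme.Opens.ι V.1 = S.fromSpecStalk s :=
  IsOpenImmersion.lift_fac _ _ _

lemma leg_homOfLE {V W : Nhd S s} (h : V ≤ W) :
    leg S s V ≫ S.homOfLE (U := V.1) (V := W.1) h = leg S s W := by
  rw [← cancel_mono (Scheme.Opens.ι W.1), Category.assoc, Scheme.homOfLE_ι, leg_ι, leg_ι]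

lemma leg_eq (V : Nhd S s) :
    Spec.map (S.presheaf.germ V.1 s V.2.2) ≫ V.2.1.isoSpec.inv = leg S s V := by
  rw [← cancel_mono (Scheme.Opens.ι V.1), leg_ι, Category.assoc, IsAffineOpen.isoSpec_inv_ι]
  exact V.2.1.fromSpecStalk_eq_fromSpecStalk V.2.2

/-- The cone of the affine open neighbourhoods of `s` with point `Spec O_{S,s}`. -/
noncomputable def cone : Cone (D S s) where
  pt := Spec (S.presheaf.stalk s)
  π :=
    { app V := leg S s V
      naturality _ _ h := (Category.id_comp _).trans (leg_homOfLE S s h.le).symm }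

/-- `Spec O_{S,s}` is the limit of the affine open neighbourhoods of `s`. -/
noncomputable def isLimit : IsLimit (cone S s) :=
  IsLimit.equivOfNatIsoOfIso (iso S s) (Scheme.Spec.mapCone (coneRightOpOfCocone (cocone S s)))
    (cone S s) (Cone.ext (Iso.refl _) (fun V => by
      refine (?_ : _ = leg S s V).trans (Category.id_comp _).symm
      exact leg_eq S s V))
    (isLimitOfPreserves Scheme.Spec (isLimitConeRightOpOfCocone _ (isColimitStalk S s)))

end K248.StalkLim
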