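import Groth.Agent.Grpsch.CubeData
import Groth.Agent.PerfB.FreeRank
import Groth.Agent.PerfB.FlatPull
import Groth.Agent.Ega2.QCohLocal
import Groth.Agent.Grpsch.PicGrp
import Mathlib.AlgebraicGeometry.Noetherian
import Mathlib.AlgebraicGeometry.Morphisms.Immersion

/-!
# Basic lemmas on invertible modules and points of immersions
-/

set_option autoImplicit false
universe u

open CategoryTheory CategoryTheory.Limits AlgebraicGeometry
open Groth.Agent Groth.Agent.Grpsch Groth.Agent.Grpsch.CubeData Groth.Agent.Fdesc.LocGen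

namespace K248.Basic

lemma isInvertible_of_iso {Y : Scheme.{u}} {L M : Y.Modules} (e : L ≅ M) (hL : PicF.IsInvertible L) :
    PicF.IsInvertible M := by
  intro x
  obtain ⟨U, hx, ⟨i⟩⟩ := hL x
  exact ⟨U, hx, ⟨(Scheme.Modules.restrictFunctor U.ι).mapIso e.symm ≪≫ i⟩⟩

lemma pull_free {Z T : Scheme.{u}} (a : Z ⟶ T) (U : T.Opens) (ha : Set.range a ⊆ (U : Set T))
    {N : T.Modules} {n : ℕ} (e : N.restrict U.ι ≅ FlatMod.freeMod U n) :
    Nonempty ((Scheme.Modules.pullback a).obj N ≅ FlatMod.freeMod Z n) := by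
  let l : Z ⟶ U := IsOpenImmersion.lift U.ι a (by simpa using ha)
  have hl : l ≫ U.ι = a := IsOpenImmersion.lift_fac _ _ _
  exact ⟨(Scheme.Modules.pullbackCongr hl.symm).app N ≪≫ (Scheme.Modules.pullbackComp l U.ι).symm.app N ≪≫
    (Scheme.Modules.pullback l).mapIso (((Scheme.Modules.restrictFunctorIsoPullback U.ι).symm.app N) ≪≫ e) ≪≫
    PerfB.FlatPull.pullbackFreeMod l n⟩

/-- A finite locally free module on `T` whose pullback along a surjective morphism is invertible is
of rank one. -/
lemma rankOne_of_pullback {P T : Scheme.{u}} (π : P ⟶ T) [Surjective π] {N : T.Modules}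
    (hN : FlatMod.IsFinLocFree N)
    (h : FlatMod.IsFinLocFreeOfRank 1 ((Scheme.Modules.pullback π).obj N)) :
    FlatMod.IsFinLocFreeOfRank 1 N := by
  intro t
  obtain ⟨U, n, ht, ⟨e⟩⟩ := hN t
  refine ⟨U, ht, ?_⟩
  obtain ⟨x, rfl⟩ := Surjective.surj (f := π) t
  obtain ⟨W, hxW, ⟨e'⟩⟩ := h x
  have hn : n = 1 := by
    let V : P.Opens := W ⊓ π ⁻¹ᵁ U
    have hx : x ∈ V := ⟨hxW, ht⟩
    obtain ⟨e₁⟩ := pull_free (V.ι ≫ π) U (by
      rintro _ ⟨v, rfl⟩
      rw [Scheme.Hom.comp_apply]
      exact v.2.2) e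
    obtain ⟨e₂⟩ := pull_free V.ι W (by
      rintro _ ⟨v, rfl⟩
      exact v.2.1) e'
    exact PerfB.FreeRank.rank_eq (⟨x, hx⟩ : V)
      (e₁.symm ≪≫ (Scheme.Modules.pullbackComp V.ι π).symm.app N ≪≫ e₂)
  subst hn
  exact ⟨e⟩

lemma isInvertible_of_pullback {P T : Scheme.{u}} (π : P ⟶ T) [Surjective π] {N : T.Modules}
    (hN : FlatMod.IsFinLocFree N) (h : PicF.IsInvertible ((Scheme.Modules.pullback π).obj N)) :
    PicF.IsInvertible N :=
  Ega2.QCohLocal.isFinLocFreeOfRank_one_iff.1
    (rankOne_of_pullback π hN (Ega2.QCohLocal.isFinLocFreeOfRank_one_iff.2 h))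

/-- A line bundle on the spectrum of a local ring pulls back to a trivial module. -/
lemma triv_of_specLocal {P : Scheme.{u}} (K : Type u) [CommRing K] [IsLocalRing K]
    (π : P ⟶ Spec (CommRingCat.of K))
    {M : (Spec (CommRingCat.of K)).Modules} (hM : PicF.IsInvertible M) :
    Triv ((Scheme.Modules.pullback π).obj M) := by
  have h1 : PicGrp.mk M hM = 1 := PicGrp.pic_spec_local K _
  exact Triv.pullback π ((PicGrp.mk_eq_one_iff hM).1 h1)

/-- A line bundle on the spectrum of a field pulls back to a trivial module. -/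
lemma triv_of_specField {P : Scheme.{u}} (K : Type u) [Field K] (π : P ⟶ Spec (CommRingCat.of K))
    {M : (Spec (CommRingCat.of K)).Modules} (hM : PicF.IsInvertible M) :
    Triv ((Scheme.Modules.pullback π).obj M) :=
  triv_of_specLocal K π hM

/-- Integrality of all base changes to fields. -/
lemma geometricallyIntegral_of_forall {X Y : Scheme.{u}} (f : X ⟶ Y)
    (h : ∀ (K : Type u) [Field K] (x : Spec (CommRingCat.of K) ⟶ Y), IsIntegral (pullback f x)) :
    GeometricallyIntegral f := by
  refine ⟨fun K _ y Z fst snd hZ => ?_⟩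
  have h1 := h K y
  have : Nonempty Z := by
    obtain ⟨x⟩ := (inferInstance : Nonempty (pullback f y : Scheme))
    exact ⟨hZ.isoPullback.inv x⟩
  exact isIntegral_of_isOpenImmersion hZ.isoPullback.hom

/-- The residue field extension of a preimmersion is trivial. -/
theorem isIso_residueFieldMap {T S : Scheme.{u}} (i : T ⟶ S) [IsPreimmersion i] (η : T) :
    IsIso (i.residueFieldMap η) := by
  have h1 : Function.Surjective (i.stalkMap η).hom := i.stalkMap_surjective η
  have h2 : Function.Surjective (i.residueFieldMap η).hom := by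
    intro b
    obtain ⟨b', rfl⟩ := T.residue_surjective η b
    obtain ⟨a, rfl⟩ := h1 b'
    refine ⟨S.residue _ a, ?_⟩
    exact congr($(Scheme.residue_residueFieldMap i η) a)
  have h3 : Function.Bijective (i.residueFieldMap η).hom :=
    ⟨RingHom.injective _, h2⟩
  exact (ConcreteCategory.isIso_iff_bijective _).2 h3

/-- The inclusion of a point in the image of a preimmersion factors through it. -/
theorem exists_lift_residueField {T S : Scheme.{u}} (i : T ⟶ S) [IsPreimmersion i] (η : T) :
    ∃ g : Spec (S.residueField (i η)) ⟶ T, g ≫ i = S.fromSpecResidueField (i η) := by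
  have := isIso_residueFieldMap i η
  refine ⟨Spec.map (inv (i.residueFieldMap η)) ≫ T.fromSpecResidueField η, ?_⟩
  rw [Category.assoc, ← Scheme.Hom.SpecMap_residueFieldMap_fromSpecResidueField, ← Category.assoc,
    ← Spec.map_comp, IsIso.hom_inv_id, Spec.map_id, Category.id_comp]

/-- The range of a monomorphism in terms of factorisations of points. -/
theorem mem_range_iff {T S : Scheme.{u}} (i : T ⟶ S) [IsPreimmersion i] (s : S) :
    s ∈ Set.range i ↔ ∃ g : Spec (S.residueField s) ⟶ T, g ≫ i = S.fromSpecResidueField s := by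
  constructor
  · rintro ⟨η, rfl⟩
    exact exists_lift_residueField i η
  · rintro ⟨g, hg⟩
    obtain ⟨pt⟩ : Nonempty (Spec (S.residueField s)) := inferInstance
    refine ⟨g pt, ?_⟩
    rw [← Scheme.Hom.comp_apply, hg, Scheme.fromSpecResidueField_apply]

/-- A generator over `U` trivialises the restriction to `U`. -/
lemma triv_restrict_of_isGen {X : Scheme.{u}} {L : X.Modules} {U : X.Opens} {e : Γ(L, U)}
    (he : IsGen e) : Nonempty (L.restrict U.ι ≅ Coh.structureModule (↑U : Scheme.{u})) := by
  have hU : U.ι ''ᵁ ⊤ ≤ U := by simp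
  have h1 : IsGen (toRestrict (M := L) U.ι (U := ⊤) (res L hU e)) :=
    (isGen_toRestrict_iff _ _).mpr (he.res hU)
  have : IsIso (homOf (toRestrict (M := L) U.ι (U := ⊤) (res L hU e))) := by
    rw [isIso_iff_isGen, sec_homOf]
    simpa using h1
  exact ⟨(asIso (homOf (toRestrict (M := L) U.ι (U := ⊤) (res L hU e)))).symm⟩

lemma isInvertible_restrict {X Y : Scheme.{u}} {L : Y.Modules} (hL : PicF.IsInvertible L) (f : X ⟶ Y)
    [IsOpenImmersion f] : PicF.IsInvertible (L.restrict f) :=
  isInvertible_of_iso ((Scheme.Modules.restrictFunctorIsoPullback f).symm.app L)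
    (isInvertible_pullback f hL)

end K248.Basic
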