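import Groth.Agent.S1431
import Groth.Agent.PicF.K248.Basic
import Groth.Agent.PosLin.K931.UnitInv

/-!
# Invertible modules coming from the base

* `counit_of_pull`, `push_iso_of_pull`: if `O_S ≅ f_* O_X` and `L ≅ f^* N` with `N` invertible then the counit
  `f^* f_* L ⟶ L` is an isomorphism and `f_* L ≅ N`;
* `exists_pull_of_triv_fibres`: over a reduced base, fibrewise trivial invertible modules come from the base.
-/

set_option autoImplicit false
universe u

open CategoryTheory CategoryTheory.Limits AlgebraicGeometry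
open Groth.Agent Groth.Agent.Grpsch Groth.Agent.Grpsch.CubeData Groth.Agent.Fdesc.LocGen

namespace K248.Descend

variable {X S : Scheme.{u}} (f : X ⟶ S)

theorem isIso_counit_pullback {N : S.Modules}
    (h : IsIso ((Scheme.Modules.pullbackPushforwardAdjunction f).unit.app N)) :
    IsIso ((Scheme.Modules.pullbackPushforwardAdjunction f).counit.app
      ((Scheme.Modules.pullback f).obj N)) := by
  have h1 := (Scheme.Modules.pullbackPushforwardAdjunction f).left_triangle_components N
  exact IsIso.of_isIso_fac_left h1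

theorem isIso_counit_of_pull (hf : ∀ U : S.Opens, IsIso (f.app U)) {L : X.Modules} {N : S.Modules}
    (hN : PicF.IsInvertible N) (e : (Scheme.Modules.pullback f).obj N ≅ L) :
    IsIso ((Scheme.Modules.pullbackPushforwardAdjunction f).counit.app L) := by
  have h1 := isIso_counit_pullback f (K931.UnitInv.isIso_unit_of_isInvertible f
    (fun U => (ConcreteCategory.isIso_iff_bijective _).1 (hf U)) N hN)
  exact (NatTrans.isIso_app_iff_of_iso _ e).1 h1

theorem push_iso_of_pull (hf : ∀ U : S.Opens, IsIso (f.app U)) {L : X.Modules} {N : S.Modules}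
    (hN : PicF.IsInvertible N) (e : (Scheme.Modules.pullback f).obj N ≅ L) :
    Nonempty (N ≅ (Scheme.Modules.pushforward f).obj L) := by
  have h1 := K931.UnitInv.isIso_unit_of_isInvertible f
    (fun U => (ConcreteCategory.isIso_iff_bijective _).1 (hf U)) N hN
  exact ⟨asIso ((Scheme.Modules.pullbackPushforwardAdjunction f).unit.app N) ≪≫
    (Scheme.Modules.pushforward f).mapIso e⟩

/-- Pulling back a module from the base gives a trivial module on fibres. -/
theorem triv_fibre_of_pull {L : X.Modules} {N : S.Modules}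
    (hN : PicF.IsInvertible N) (e : (Scheme.Modules.pullback f).obj N ≅ L) (s : S) :
    Triv ((Scheme.Modules.pullback (f.fiberι s)).obj L) := by
  refine Triv.of_iso ((Scheme.Modules.pullback (f.fiberι s)).mapIso e.symm) ?_
  rw [← triv_comp, triv_congr (f.fiber_fac s), triv_comp]
  exact K248.Basic.triv_of_specField (S.residueField s) (f.fiberToSpecResidueField s)
    (isInvertible_pullback (S.fromSpecResidueField s) hN)

/-- Over a reduced base a fibrewise trivial invertible module comes from the base. -/
theorem exists_pull_of_triv_fibres [IsProper f] [Flat f] [LocallyOfFinitePresentation f]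
    (hO : ∀ (T : Scheme.{u}) (g : T ⟶ S) (U : T.Opens), IsIso ((pullback.snd f g).app U))
    [IsReduced S] (L : X.Modules) (hL : PicF.IsInvertible L) (hsurj : Surjective f)
    (h : ∀ s : S, Triv ((Scheme.Modules.pullback (f.fiberι s)).obj L)) :
    ∃ N : S.Modules, PicF.IsInvertible N ∧ Nonempty ((Scheme.Modules.pullback f).obj N ≅ L) := by
  obtain ⟨Z, j, hj1, hj2, hj⟩ := S1431.result f hO L
    (Ega2.QCohLocal.isFinLocFree_of_rank (Ega2.QCohLocal.isFinLocFreeOfRank_one_iff.2 hL))
  have hr : ∀ s : S, s ∈ Set.range j := by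
    intro s
    rw [K248.Basic.mem_range_iff, hj]
    obtain ⟨e⟩ := h s
    refine ⟨Coh.structureModule _, Ega2.QCohLocal.isFinLocFree_of_rank
      (Ega2.QCohLocal.isFinLocFreeOfRank_one_iff.2 isInvertible_structureModule), ?_⟩
    obtain ⟨i⟩ : Triv ((Scheme.Modules.pullback (pullback.snd f (S.fromSpecResidueField s))).obj
        (Coh.structureModule _)) := Triv.pullback _ ⟨Iso.refl _⟩
    exact ⟨i ≪≫ e.symm⟩
  have hs : Surjective j := ⟨hr⟩
  have hcl : IsClosedImmersion j := IsClosedImmersion.of_isPreimmersion j (by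
    rw [Set.range_eq_univ.2 hr]
    exact isClosed_univ)
  have hiso : IsIso j := isIso_of_isClosedImmersion_of_surjective j
  obtain ⟨N, hN, ⟨e⟩⟩ := (hj S (𝟙 S)).1 ⟨inv j, IsIso.inv_hom_id j⟩
  have hN' : PicF.IsInvertible N := K248.Basic.isInvertible_of_pullback (pullback.snd f (𝟙 S)) hN
    (K248.Basic.isInvertible_of_iso e.symm (isInvertible_pullback _ hL))
  let p : X ⟶ pullback f (𝟙 S) := pullback.lift (𝟙 X) f (by rw [Category.id_comp, Category.comp_id])
  refine ⟨N, hN', ⟨?_⟩⟩
  exact (Scheme.Modules.pullbackCongr (pullback.lift_snd (𝟙 X) f _).symm).app N ≪≫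
    ((Scheme.Modules.pullbackComp p (pullback.snd f (𝟙 S))).app N).symm ≪≫
    (Scheme.Modules.pullback p).mapIso e ≪≫
    (Scheme.Modules.pullbackComp p (pullback.fst f (𝟙 S))).app L ≪≫
    (Scheme.Modules.pullbackCongr (pullback.lift_fst (𝟙 X) f _)).app L ≪≫
    (Scheme.Modules.pullbackId X).app L

end K248.Descend
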