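import Groth.Agent.S0980
import Groth.Prelude.Def_ega3
import Mathlib.AlgebraicGeometry.Fiber

/-!
# Fibres with one-dimensional space of global functions
-/

set_option autoImplicit false
universe u

open CategoryTheory CategoryTheory.Limits AlgebraicGeometry

namespace K248.H0One

open Groth.Agent.PerfA.CechH0

lemma bijective_algebraMap_of_finrank_eq_one (K A : Type*) [Field K] [CommRing A] [Algebra K A]
    (h : Module.finrank K A = 1) : Function.Bijective (algebraMap K A) := by
  have hfin : Module.Finite K A := Module.finite_of_finrank_eq_succ h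
  have hnt : Nontrivial A := Module.nontrivial_of_finrank_pos (R := K) (by omega)
  refine ⟨(algebraMap K A).injective, ?_⟩
  have h1 : LinearMap.range (Algebra.linearMap K A) = ⊤ := by
    apply Submodule.eq_top_of_finrank_eq
    rw [LinearMap.finrank_range_of_inj (f := Algebra.linearMap K A) (algebraMap K A).injective,
      Module.finrank_self, h]
  exact LinearMap.range_eq_top.1 h1

/-- Functions on a fibre with one-dimensional `H⁰` are the residue field. -/
theorem isIso_appTop_of_finrank {X Y : Scheme.{u}} (f : X ⟶ Y) (y : Y)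
    (h : Module.finrank (Y.residueField y) Γ(f.fiber y, ⊤) = 1) :
    IsIso (f.fiberToSpecResidueField y).appTop := by
  have h1 := bijective_algebraMap_of_finrank_eq_one (Y.residueField y) Γ(f.fiber y, ⊤) h
  have h2 : IsIso ((Scheme.ΓSpecIso (Y.residueField y)).inv ≫
      (f.fiberToSpecResidueField y).appTop) := (ConcreteCategory.isIso_iff_bijective _).2 h1
  exact IsIso.of_isIso_comp_left (Scheme.ΓSpecIso (Y.residueField y)).inv _

theorem finrank_of_isIso_appTop {X Y : Scheme.{u}} (f : X ⟶ Y) (y : Y)
    (h : IsIso (f.fiberToSpecResidueField y).appTop) :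
    Module.finrank (Y.residueField y) Γ(f.fiber y, ⊤) = 1 := by
  have h1 : Function.Bijective (algebraMap (Y.residueField y) Γ(f.fiber y, ⊤)) :=
    (ConcreteCategory.isIso_iff_bijective ((Scheme.ΓSpecIso (Y.residueField y)).inv ≫
      (f.fiberToSpecResidueField y).appTop)).1 inferInstance
  rw [← (LinearEquiv.ofBijective (Algebra.linearMap (Y.residueField y) Γ(f.fiber y, ⊤)) h1).finrank_eq,
    Module.finrank_self]

theorem surjective_of_finrank {X Y : Scheme.{u}} (f : X ⟶ Y)
    (h : ∀ y : Y, Module.finrank (Y.residueField y) Γ(f.fiber y, ⊤) = 1) : Surjective f := by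
  constructor
  intro y
  have hnt : Nontrivial Γ(f.fiber y, ⊤) :=
    Module.nontrivial_of_finrank_pos (R := Y.residueField y) (by rw [h y]; exact one_pos)
  have hne : Nonempty (f.fiber y) := by
    by_contra hcon
    rw [not_nonempty_iff] at hcon
    exact not_subsingleton Γ(f.fiber y, ⊤) inferInstance
  obtain ⟨x⟩ := hne
  refine ⟨f.fiberι y x, ?_⟩
  rw [← Scheme.Hom.comp_apply, f.fiber_fac, Scheme.Hom.comp_apply]
  exact Scheme.fromSpecResidueField_apply _ _

/-- Base change of `H⁰ = κ` along an extension of fields. -/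
theorem isIso_appTop_of_isPullback {K K' : Type u} [Field K] [Field K'] (φ : K →+* K')
    {X X' : Scheme.{u}} {f : X ⟶ Spec (CommRingCat.of K)} {f' : X' ⟶ Spec (CommRingCat.of K')}
    {g : X' ⟶ X} (H : IsPullback g f' f (Spec.map (CommRingCat.ofHom φ)))
    (_ : QuasiCompact f) (_ : QuasiSeparated f) (h : IsIso f.appTop) : IsIso f'.appTop := by
  let _ := φ.toAlgebra
  have hX : CompactSpace X := (quasiCompact_iff_compactSpace f).mp inferInstance
  have hX' : QuasiSeparatedSpace X := (quasiSeparated_iff_quasiSeparatedSpace f).mp inferInstance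
  rw [← Groth.Agent.PerfA.StalkPush.bijective_str_top_iff] at h ⊢
  exact bijective_str_of_flat (A := K) (A' := K') H (V := ⊤) isCompact_univ isQuasiSeparated_univ h

/-- If every fibre has `H⁰(O) = κ`, so has every fibre of a base change. -/
theorem isIso_appTop_fibre_bc {X Y : Scheme.{u}} (f : X ⟶ Y) [QuasiCompact f] [QuasiSeparated f]
    (h : ∀ y : Y, IsIso (f.fiberToSpecResidueField y).appTop) {P T : Scheme.{u}} {g : T ⟶ Y}
    {g' : P ⟶ X} {f' : P ⟶ T} (H : IsPullback g' f' f g) (t : T) :
    IsIso (f'.fiberToSpecResidueField t).appTop := by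
  have h1 := isPullback_fiberToSpecResidueField_of_isPullback H t
  have i1 : QuasiCompact (f.fiberToSpecResidueField (g t)) :=
    inferInstanceAs (QuasiCompact (pullback.snd f (Y.fromSpecResidueField (g t))))
  have i2 : QuasiSeparated (f.fiberToSpecResidueField (g t)) :=
    inferInstanceAs (QuasiSeparated (pullback.snd f (Y.fromSpecResidueField (g t))))
  exact isIso_appTop_of_isPullback (K := Y.residueField (g t)) (K' := T.residueField t)
    (g.residueFieldMap t).hom h1 i1 i2 (h _)

/-- `O_T = (f_T)_* O` universally when every fibre has `H⁰(O) = κ`. -/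
theorem isIso_app_bc {X Y : Scheme.{u}} (f : X ⟶ Y) [IsProper f] [Flat f]
    [LocallyOfFinitePresentation f] (h : ∀ y : Y, IsIso (f.fiberToSpecResidueField y).appTop)
    (T : Scheme.{u}) (g : T ⟶ Y) (U : T.Opens) : IsIso ((pullback.snd f g).app U) :=
  Groth.Agent.S0980.result (pullback.snd f g)
    (fun t => isIso_appTop_fibre_bc f h (IsPullback.of_hasPullback f g) t) U

end K248.H0One
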