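import Groth.Agent.PicF.K248.UGen
import Groth.Agent.PicF.K248.BCInv
import Groth.Agent.Fga.SecComp

/-!
# Universal generators and base change of direct images

`ug_iff`: for a cartesian square over `t : T ⟶ S`, `UG f L t` iff `f_{T*} L_T` is invertible and its formation commutes
with every base change.
-/

set_option autoImplicit false
set_option linter.style.haveILetI false
universe u
open CategoryTheory CategoryTheory.Limits AlgebraicGeometry TopologicalSpace Opposite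

namespace K248.UGenBC

open K248.UGen K248.BC0 K248.BCInv
open Groth.Agent.Flat2F.BCSec Groth.Agent.Flat2F.DescLocal
open Groth.Agent.Flat2F.RepH0Desc Groth.Agent.VarietyB.PullSec
open Groth.Agent.Fdesc.LocGen (IsGen ores pullSec res_ext res_glue ores_ext ores_glue)

section Affine

open Groth.Agent.Fdesc.LocGen

variable {X : Scheme.{u}}

/-- The affine opens contained in an open cover it. -/
theorem le_iSup_affine (W : X.Opens) :
    W ≤ ⨆ i : {W' : X.Opens // IsAffineOpen W' ∧ W' ≤ W}, i.1 := by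
  intro x hx
  obtain ⟨_, ⟨W', hW', rfl⟩, hxW', hle⟩ := X.isBasis_affineOpens.exists_subset_of_mem_open hx W.isOpen
  exact Opens.mem_iSup.mpr ⟨⟨W', hW', hle⟩, hxW'⟩

/-- Generators may be tested on affine opens. -/
theorem isGen_of_affine {M : X.Modules} {V : X.Opens} (e : Γ(M, V))
    (h : ∀ (W : X.Opens) (hW : W ≤ V), IsAffineOpen W →
      Function.Bijective (fun a : Γ(X, W) => a • res M hW e)) : IsGen e := by
  intro W hW
  constructor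
  · intro a b hab
    refine ores_ext (fun i : {W' : X.Opens // IsAffineOpen W' ∧ W' ≤ W} => i.1) (fun i => i.2.2)
      (le_iSup_affine W) fun i => ?_
    apply (h i.1 (i.2.2.trans hW) i.2.1).1
    have := congrArg (res M i.2.2) hab
    dsimp only at this ⊢
    rwa [res_smul, res_smul, res_res] at this
  · intro m
    choose a ha using fun i : {W' : X.Opens // IsAffineOpen W' ∧ W' ≤ W} =>
      (h i.1 (i.2.2.trans hW) i.2.1).2 (res M i.2.2 m)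
    dsimp only at ha
    obtain ⟨b, hb⟩ := ores_glue (fun i : {W' : X.Opens // IsAffineOpen W' ∧ W' ≤ W} => i.1)
      (fun i => i.2.2) (le_iSup_affine W) a (fun i j => by
        refine ores_ext (fun i' : {W' : X.Opens // IsAffineOpen W' ∧ W' ≤ i.1 ⊓ j.1} => i'.1)
          (fun i' => i'.2.2) (le_iSup_affine _) fun i' => ?_
        have hi : i'.1 ≤ i.1 := i'.2.2.trans inf_le_left
        have hj : i'.1 ≤ j.1 := i'.2.2.trans inf_le_right
        apply (h i'.1 ((hi.trans i.2.2).trans hW) i'.2.1).1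
        dsimp only
        rw [ores_ores, ores_ores]
        have h1 := congrArg (res M hi) (ha i)
        have h2 := congrArg (res M hj) (ha j)
        rw [res_smul, res_res, res_res] at h1 h2
        rw [h1, h2])
    refine ⟨b, ?_⟩
    refine res_ext M (fun i : {W' : X.Opens // IsAffineOpen W' ∧ W' ≤ W} => i.1) (fun i => i.2.2)
      (le_iSup_affine W) fun i => ?_
    dsimp only
    rw [res_smul, hb, res_res, ha]

end Affine

section On

variable {X S : Scheme.{u}} (f : X ⟶ S) (E : X.Modules)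

theorem top_le {T XT C X' : Scheme.{u}} {p : XT ⟶ T} {V : T.Opens} {u : C ⟶ T} (hu : ⊤ ≤ u ⁻¹ᵁ V)
    {p' : X' ⟶ C} {k : X' ⟶ XT} (hk' : k ≫ p = p' ≫ u) : ⊤ ≤ k ⁻¹ᵁ (p ⁻¹ᵁ V) := by
  rw [← Scheme.Hom.comp_preimage, hk', Scheme.Hom.comp_preimage]
  exact p'.preimage_mono hu

/-- The section `s` of `E_T` over `p⁻¹ V` is a universal generator. -/
def UGenOn {T XT : Scheme.{u}} (t : T ⟶ S) (a : XT ⟶ X) (p : XT ⟶ T) (V : T.Opens)
    (s : Γ((Scheme.Modules.pullback a).obj E, p ⁻¹ᵁ V)) : Prop :=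
  ∀ (C : CommRingCat.{u}) (u : Spec C ⟶ T) (hu : ⊤ ≤ u ⁻¹ᵁ V) (X' : Scheme.{u}) (a' : X' ⟶ X)
    (p' : X' ⟶ Spec C) (_ : IsPullback a' p' f (u ≫ t)) (k : X' ⟶ XT) (hk : k ≫ a = a')
    (hk' : k ≫ p = p' ≫ u),
    Function.Bijective (fun c : C =>
      scal p' c • tr k a a' hk E (U := p ⁻¹ᵁ V) (V := ⊤) (top_le hu hk') s)

variable {f E}

theorem pre_le {T XT T' XT' : Scheme.{u}} {p : XT ⟶ T} (V : T.Opens)
    {u : T' ⟶ T} {u' : XT' ⟶ XT} {p' : XT' ⟶ T'} (hu' : u' ≫ p = p' ≫ u) :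
    p' ⁻¹ᵁ (u ⁻¹ᵁ V) ≤ u' ⁻¹ᵁ (p ⁻¹ᵁ V) := by
  rw [← Scheme.Hom.comp_preimage, ← Scheme.Hom.comp_preimage, hu']

theorem UGenOn.precomp {T XT T' XT' : Scheme.{u}} {t : T ⟶ S} {a : XT ⟶ X} {p : XT ⟶ T} {V : T.Opens}
    {s : Γ((Scheme.Modules.pullback a).obj E, p ⁻¹ᵁ V)} (hs : UGenOn f E t a p V s) (u : T' ⟶ T)
    (u' : XT' ⟶ XT) (p' : XT' ⟶ T') (a' : XT' ⟶ X) (ha' : u' ≫ a = a') (hu' : u' ≫ p = p' ≫ u) :
    UGenOn f E (u ≫ t) a' p' (u ⁻¹ᵁ V) (tr u' a a' ha' E (pre_le V hu') s) := by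
  intro C v hv X'' a'' p'' H'' k hk hk'
  have h1 := hs C (v ≫ u) hv X'' a'' p'' (by rwa [Category.assoc]) (k ≫ u')
    (by rw [Category.assoc, ha', hk]) (by rw [Category.assoc, hu', reassoc_of% hk'])
  have h2 := tr_tr k u' a a' a'' ha' hk (by rw [Category.assoc, ha', hk]) E (U := p ⁻¹ᵁ V)
    (V := p' ⁻¹ᵁ (u ⁻¹ᵁ V)) (T := ⊤) (pre_le V hu') (top_le hv hk')
    (top_le (u := v ≫ u) hv (by rw [Category.assoc, hu', reassoc_of% hk'])) s
  rw [h2]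
  exact h1

theorem isGen_of_ugenOn {T XT : Scheme.{u}} {t : T ⟶ S} {a : XT ⟶ X} {p : XT ⟶ T} {V : T.Opens}
    {s : Γ((Scheme.Modules.pullback a).obj E, p ⁻¹ᵁ V)} (H : IsPullback a p f t)
    (hs : UGenOn f E t a p V s) : IsGen (toPush p _ V s) := by
  refine isGen_of_affine _ fun W hW hWa => ?_
  let u := hWa.fromSpec
  have hu : ⊤ ≤ u ⁻¹ᵁ V := by
    rw [← hWa.fromSpec_preimage_self]
    exact u.preimage_mono hW
  let k := pullback.fst p u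
  let p' := pullback.snd p u
  have hk' : k ≫ p = p' ≫ u := pullback.condition
  have hb := hs _ u hu _ (k ≫ a) p' ((IsPullback.of_hasPullback p u).paste_horiz H) k rfl hk'
  have e : ⊤ ≤ k ⁻¹ᵁ (p ⁻¹ᵁ W) := top_le (hWa.fromSpec_preimage_self).ge hk'
  have hrange : p ⁻¹ᵁ W ≤ k ''ᵁ ⊤ := by
    rw [Scheme.Hom.image_top_eq_opensRange, Scheme.Hom.opensRange_pullbackFst, hWa.opensRange_fromSpec]
  have hB : Function.Bijective (tr k a (k ≫ a) rfl E (U := p ⁻¹ᵁ W) (V := ⊤) e) :=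
    (app_bijective (cmp k a (k ≫ a) rfl E) ⊤).comp
      (Groth.Agent.Fga.SecComp.sec_bijective_of_isOpenImmersion k _ e hrange)
  have hsc : ∀ c : Γ(T, W), k.appLE (p ⁻¹ᵁ W) ⊤ e (p.app W c) = scal p' c := by
    intro c
    have key : ∀ (g : pullback p u ⟶ T) (_ : g = p' ≫ u) (e' : ⊤ ≤ g ⁻¹ᵁ W),
        g.appLE W ⊤ e' = (Scheme.ΓSpecIso Γ(T, W)).inv ≫ p'.appTop := by
      rintro g rfl e'
      rw [Scheme.Hom.comp_appLE, hWa.fromSpec_app_self, Category.assoc, Scheme.Hom.map_appLE]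
      congr 1
      exact Scheme.Hom.appLE_eq_app _
    have h1 := key (k ≫ p) hk' e
    rw [Scheme.Hom.comp_appLE] at h1
    exact ConcreteCategory.congr_hom h1 c
  refine (Function.Bijective.of_comp_iff' hB _).1 ?_
  have h2 : (tr k a (k ≫ a) rfl E (U := p ⁻¹ᵁ W) (V := ⊤) e) ∘ (fun c : Γ(T, W) =>
      c • Groth.Agent.Fdesc.LocGen.res _ hW (toPush p _ V s)) =
      fun c => scal p' c • tr k a (k ≫ a) rfl E (U := p ⁻¹ᵁ V) (V := ⊤) (top_le hu hk') s := by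
    funext c
    have h3 := tr_res k a (k ≫ a) rfl E (U := p ⁻¹ᵁ V) (V := ⊤) e (p.preimage_mono hW) s
    rw [← h3, ← hsc c, ← tr_smul]
    rfl
  rw [h2]
  exact hb

/-- A universal generator over `T₀`, `T₀ ⟶ T` an open immersion, seen over `T`. -/
theorem exists_ugenOn {T XT : Scheme.{u}} {t : T ⟶ S} {a : XT ⟶ X} {p : XT ⟶ T} (H : IsPullback a p f t)
    {T₀ : Scheme.{u}} (h : T₀ ⟶ T) [IsOpenImmersion h] (hG : G f E (h ≫ t)) :
    ∃ s : Γ((Scheme.Modules.pullback a).obj E, p ⁻¹ᵁ h.opensRange), UGenOn f E t a p h.opensRange s := by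
  obtain ⟨X₀, a₀, p₀, H₀, s, hs⟩ := hG
  let k₀ : X₀ ⟶ XT := H.lift a₀ (p₀ ≫ h) (by rw [H₀.w, Category.assoc])
  have hk₀ : k₀ ≫ a = a₀ := H.lift_fst _ _ _
  have hk₀' : k₀ ≫ p = p₀ ≫ h := H.lift_snd _ _ _
  have H₁ : IsPullback k₀ p₀ p h := IsPullback.of_right (by rw [hk₀]; exact H₀) hk₀' H
  have hopen : IsOpenImmersion k₀ := MorphismProperty.of_isPullback H₁.flip inferInstance
  have e : ⊤ ≤ k₀ ⁻¹ᵁ (p ⁻¹ᵁ h.opensRange) := top_le (u := h) (by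
    rw [Scheme.Hom.preimage_opensRange]) hk₀'
  have hrange : p ⁻¹ᵁ h.opensRange ≤ k₀ ''ᵁ ⊤ := by
    rw [Scheme.Hom.image_top_eq_opensRange]
    rintro x ⟨t₀, ht₀⟩
    obtain ⟨z, hz, -⟩ := Scheme.exists_preimage_of_isPullback H₁ x t₀ ht₀.symm
    exact ⟨z, hz⟩
  have hB : Function.Bijective (tr k₀ a a₀ hk₀ E (U := p ⁻¹ᵁ h.opensRange) (V := ⊤) e) :=
    (app_bijective (cmp k₀ a a₀ hk₀ E) ⊤).comp
      (Groth.Agent.Fga.SecComp.sec_bijective_of_isOpenImmersion k₀ _ e hrange)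
  obtain ⟨sT, rfl⟩ := hB.2 s
  refine ⟨sT, ?_⟩
  intro C u hu X' a' p' H' k hk hk'
  obtain ⟨v, hv⟩ : ∃ v : Spec C ⟶ T₀, v ≫ h = u := by
    refine ⟨IsOpenImmersion.lift h u ?_, IsOpenImmersion.lift_fac _ _ _⟩
    rintro _ ⟨q, rfl⟩
    exact hu (show q ∈ ⊤ from trivial)
  let k' : X' ⟶ X₀ := H₁.lift k (p' ≫ v) (by rw [hk', Category.assoc, hv])
  have hk'₁ : k' ≫ k₀ = k := H₁.lift_fst _ _ _
  have hk'₂ : k' ≫ p₀ = p' ≫ v := H₁.lift_snd _ _ _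
  have h1 := hs C v X' a' p' (by rw [reassoc_of% hv]; exact H') k'
    (by rw [← hk₀, reassoc_of% hk'₁, hk]) hk'₂
  have h2 := tr_tr k' k₀ a a₀ a' hk₀ (by rw [← hk₀, reassoc_of% hk'₁, hk])
    (by rw [hk'₁, hk]) E (U := p ⁻¹ᵁ h.opensRange) (V := ⊤) (T := ⊤) e le_top
    (by rw [hk'₁]; exact top_le hu hk') sT
  rw [h2] at h1
  have key : ∀ (k₁ : X' ⟶ XT) (_ : k₁ = k) (hk₁ : k₁ ≫ a = a') (e₁ : ⊤ ≤ k₁ ⁻¹ᵁ (p ⁻¹ᵁ h.opensRange)),
      Function.Bijective (fun c : C => scal p' c • tr k₁ a a' hk₁ E (U := p ⁻¹ᵁ h.opensRange)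
        (V := ⊤) e₁ sT) → Function.Bijective (fun c : C => scal p' c • tr k a a' hk E
        (U := p ⁻¹ᵁ h.opensRange) (V := ⊤) (top_le hu hk') sT) := by
    rintro k₁ rfl hk₁ e₁ h
    exact h
  exact key _ hk'₁ _ _ h1

end On

section Main

variable {X S : Scheme.{u}} {f : X ⟶ S} {E : X.Modules}

/-- The image of a universal generator under the base change morphism is a generator. -/
theorem isGen_bc0 {T XT : Scheme.{u}} {t : T ⟶ S} {gT : XT ⟶ X} {fT : XT ⟶ T} {V : T.Opens}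
    {s : Γ((Scheme.Modules.pullback gT).obj E, fT ⁻¹ᵁ V)} (hT : IsPullback gT fT f t)
    (hs : UGenOn f E t gT fT V s) {T' XT' : Scheme.{u}} (u : T' ⟶ T) (fT' : XT' ⟶ T') (u' : XT' ⟶ XT)
    (hT' : IsPullback u' fT' fT u) :
    IsGen ((CohBC.bc0 fT u fT' u' hT'.w ((Scheme.Modules.pullback gT).obj E)).app (u ⁻¹ᵁ V)
      (pullSec u (toPush fT _ V s))) := by
  rw [bc0_app_pullSec]
  have h1 := isGen_of_ugenOn (hT'.paste_horiz hT) (hs.precomp u u' fT' (u' ≫ gT) rfl hT'.w)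
  have h2 := h1.app ((Scheme.Modules.pushforward fT').map (cmp u' gT (u' ≫ gT) rfl E).inv)
  convert h2 using 1
  change _ = toPush fT' _ _ ((cmp u' gT (u' ≫ gT) rfl E).inv.app _ (tr u' gT (u' ≫ gT) rfl E
    (pre_le V hT'.w) s))
  congr 1
  rw [tr_apply]
  refine (hom_inv_app (cmp u' gT (u' ≫ gT) rfl E).symm _ _).symm.trans ?_
  rfl

theorem of_ug {T XT : Scheme.{u}} {t : T ⟶ S} {gT : XT ⟶ X} {fT : XT ⟶ T}
    (hT : IsPullback gT fT f t) (h : UG f E t) :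
    PicF.IsInvertible ((Scheme.Modules.pushforward fT).obj ((Scheme.Modules.pullback gT).obj E)) ∧
      ∀ (T' : Scheme.{u}) (u : T' ⟶ T) (XT' : Scheme.{u}) (fT' : XT' ⟶ T') (u' : XT' ⟶ XT)
        (hT' : IsPullback u' fT' fT u),
        IsIso (CohBC.bc0 fT u fT' u' hT'.w ((Scheme.Modules.pullback gT).obj E)) := by
  have key : ∀ x : T, ∃ (V : T.Opens) (_ : x ∈ V)
      (s : Γ((Scheme.Modules.pullback gT).obj E, fT ⁻¹ᵁ V)), UGenOn f E t gT fT V s := by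
    intro x
    obtain ⟨T₀, i, hi, hx, hG⟩ := h x
    obtain ⟨s, hs⟩ := exists_ugenOn hT i hG
    exact ⟨i.opensRange, hx, s, hs⟩
  refine ⟨(Groth.Agent.Fdesc.LocGen.isInvertible_iff _).2 fun x => ?_, fun T' u XT' fT' u' hT' => ?_⟩
  · obtain ⟨V, hx, s, hs⟩ := key x
    exact ⟨V, toPush fT _ V s, hx, isGen_of_ugenOn hT hs⟩
  · refine Groth.Agent.Grpsch.PicGrp.isIso_of_isGen _ fun x' => ?_
    obtain ⟨V, hx, s, hs⟩ := key (u x')
    exact ⟨u ⁻¹ᵁ V, pullSec u (toPush fT _ V s), hx, (isGen_of_ugenOn hT hs).pullSec u,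
      isGen_bc0 hT hs u fT' u' hT'⟩

theorem ug_of {T XT : Scheme.{u}} {t : T ⟶ S} {gT : XT ⟶ X} {fT : XT ⟶ T}
    (hT : IsPullback gT fT f t)
    (hN : PicF.IsInvertible ((Scheme.Modules.pushforward fT).obj ((Scheme.Modules.pullback gT).obj E)))
    (hbc : ∀ (T' : Scheme.{u}) (u : T' ⟶ T) (XT' : Scheme.{u}) (fT' : XT' ⟶ T') (u' : XT' ⟶ XT)
        (hT' : IsPullback u' fT' fT u),
        IsIso (CohBC.bc0 fT u fT' u' hT'.w ((Scheme.Modules.pullback gT).obj E))) : UG f E t := by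
  intro x
  obtain ⟨V, e₀, hx, he₀⟩ := (Groth.Agent.Fdesc.LocGen.isInvertible_iff _).1 hN x
  obtain ⟨s, rfl⟩ := (toPush fT ((Scheme.Modules.pullback gT).obj E) V).surjective e₀
  refine ⟨V, V.ι, inferInstance, ⟨⟨x, hx⟩, rfl⟩, ?_⟩
  have H₁ := (isPullback_morphismRestrict fT V).flip
  have e₁ : ⊤ ≤ (fT ⁻¹ᵁ V).ι ⁻¹ᵁ (fT ⁻¹ᵁ V) := fun y _ => y.2
  refine ⟨_, _, _, H₁.paste_horiz hT, tr (fT ⁻¹ᵁ V).ι gT _ rfl E (U := fT ⁻¹ᵁ V) (V := ⊤) e₁ s, ?_⟩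
  intro C u X' a' p' H' k hk hk'
  have hk₁ : (k ≫ (fT ⁻¹ᵁ V).ι) ≫ gT = a' := by rw [Category.assoc, hk]
  have hT' : IsPullback (k ≫ (fT ⁻¹ᵁ V).ι) p' fT (u ≫ V.ι) := IsPullback.of_right
    (by rw [hk₁, Category.assoc]; exact H') (by
      rw [Category.assoc, ← morphismRestrict_ι, reassoc_of% hk']) hT
  have hiso := hbc _ (u ≫ V.ι) _ p' _ hT'
  have hu : ⊤ ≤ (u ≫ V.ι) ⁻¹ᵁ V := fun y _ => (u y).2
  have h1 := ((he₀.pullSec (u ≫ V.ι)).app
    (asIso (CohBC.bc0 fT (u ≫ V.ι) p' _ hT'.w ((Scheme.Modules.pullback gT).obj E))).hom) ⊤ hu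
  rw [asIso_hom, bc0_app_pullSec] at h1
  have h2 := tr_tr k (fT ⁻¹ᵁ V).ι gT _ a' rfl hk hk₁ E (U := fT ⁻¹ᵁ V) (V := ⊤) (T := ⊤) e₁ le_top
    (top_le hu hT'.w) s
  rw [h2]
  have h4 : Groth.Agent.Fdesc.LocGen.res _ hu (toPush p' _ _ (Groth.Agent.Fdesc.LocGen.res _
      (preim_eq fT (u ≫ V.ι) p' _ hT'.w V).le (pullSec (k ≫ (fT ⁻¹ᵁ V).ι) s))) =
      toPush p' _ ⊤ (sec (k ≫ (fT ⁻¹ᵁ V).ι) ((Scheme.Modules.pullback gT).obj E)
        (top_le hu hT'.w) s) := by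
    rw [res_toPush, Groth.Agent.Fdesc.LocGen.res_res]
    rfl
  rw [h4] at h1
  have h3 := (app_bijective (cmp (k ≫ (fT ⁻¹ᵁ V).ι) gT a' hk₁ E) ⊤).comp
    (h1.comp (ConcreteCategory.bijective_of_isIso (Scheme.ΓSpecIso C).inv))
  convert h3 using 1
  funext c
  rw [tr_apply, ← Scheme.Modules.Hom.app_smul]
  rfl

theorem ug_iff {T XT : Scheme.{u}} {t : T ⟶ S} {gT : XT ⟶ X} {fT : XT ⟶ T}
    (hT : IsPullback gT fT f t) : UG f E t ↔
    (PicF.IsInvertible ((Scheme.Modules.pushforward fT).obj ((Scheme.Modules.pullback gT).obj E)) ∧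
      ∀ (T' : Scheme.{u}) (u : T' ⟶ T) (XT' : Scheme.{u}) (fT' : XT' ⟶ T') (u' : XT' ⟶ XT)
        (hT' : IsPullback u' fT' fT u),
        IsIso (CohBC.bc0 fT u fT' u' hT'.w ((Scheme.Modules.pullback gT).obj E))) :=
  ⟨fun h => of_ug hT h, fun h => ug_of hT h.1 h.2⟩

end Main

end K248.UGenBC
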