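import Groth.Agent.Fdesc.LocGenPullback
import Groth.Agent.Grpsch.PicGrp
import Groth.Prelude.Def_CohBC2

/-!
# The degree-zero base change morphism on sections

* `toPush f F V : Γ(F, f⁻¹ V) ≃+ Γ(f_* F, V)`;
* `bc0_app_pullSec`: `bc0` maps the pullback (along `g`) of a section `s` of `f_* F` to the pullback (along `g'`) of `s`;
* `isIso_bc0_of_gen`: `bc0` is an isomorphism if `f_* F` locally has generators which pull back to generators of
  `f'_* g'^* F`;
* `isGen_of_isIso_bc0`: the converse.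
-/

set_option autoImplicit false
universe u

open CategoryTheory CategoryTheory.Limits AlgebraicGeometry Opposite TopologicalSpace
open Groth.Agent.Fdesc.LocGen

namespace K248.BC0

section Push

variable {X S : Scheme.{u}} (f : X ⟶ S) (F : X.Modules)

/-- Sections of a direct image. -/
noncomputable def toPush (V : S.Opens) : Γ(F, f ⁻¹ᵁ V) ≃+ Γ((Scheme.Modules.pushforward f).obj F, V) :=
  AddEquiv.refl _

lemma toPush_smul (V : S.Opens) (a : Γ(S, V)) (s : Γ(F, f ⁻¹ᵁ V)) :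
    toPush f F V (f.app V a • s) = a • toPush f F V s := rfl

lemma res_toPush {V W : S.Opens} (h : W ≤ V) (s : Γ(F, f ⁻¹ᵁ V)) :
    res _ h (toPush f F V s) = toPush f F W (res F (f.preimage_mono h) s) := rfl

end Push

variable {X S X' S' : Scheme.{u}} (f : X ⟶ S) (g : S' ⟶ S) (f' : X' ⟶ S') (g' : X' ⟶ X)
  (w : g' ≫ f = f' ≫ g) (F : X.Modules)

include w in
lemma preim_eq (V : S.Opens) : f' ⁻¹ᵁ (g ⁻¹ᵁ V) = g' ⁻¹ᵁ (f ⁻¹ᵁ V) := by
  rw [← Scheme.Hom.comp_preimage, ← Scheme.Hom.comp_preimage, w]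

theorem bc0Adj_app (V : S.Opens) (s : Γ(F, f ⁻¹ᵁ V)) :
    (CohBC.bc0Adj f g f' g' w F).app V (toPush f F V s) =
      toPush g _ V (toPush f' _ _ (res _ (preim_eq f g f' g' w V).le (pullSec g' s))) := rfl

theorem bc0_app_pullSec (V : S.Opens) (s : Γ(F, f ⁻¹ᵁ V)) :
    (CohBC.bc0 f g f' g' w F).app (g ⁻¹ᵁ V) (pullSec g (toPush f F V s)) =
      toPush f' _ _ (res _ (preim_eq f g f' g' w V).le (pullSec g' s)) := by
  rw [← homEquiv_app, CohBC.bc0, Equiv.apply_symm_apply, bc0Adj_app]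
  rfl

end K248.BC0
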