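import Groth.Agent.Flat2F.DescLocal3
import Mathlib.Topology.Spectral.ConstructibleTopology
import Mathlib.Topology.Constructible

/-!
# Compactness of the locus where sections form a basis; a compactness principle for constructible sets

* `isCompact_basAt`: on a quasi-compact scheme the locus where `n` global sections of a finite locally free module
  form a basis is quasi-compact;
* `isConstructible_of_forall`: in a spectral space a set is constructible if every point lies in a constructible
  set `C` with `W ∩ C` constructible;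
* `isCompact_of_isConstructible`.
-/

set_option autoImplicit false
universe u

open CategoryTheory CategoryTheory.Limits AlgebraicGeometry TopologicalSpace Opposite Topology

namespace K248.BasCpt

open Groth.Agent Groth.Agent.Flat2F.SecBasis Groth.Agent.Flat2F.BasAlg Groth.Agent.Flat2F.BCSec
open Groth.Agent.Flat2F.LocBas Groth.Agent.Flat2F.DescLocal

section Basis

variable {X : Scheme.{u}}

theorem basAt_iff_mem_basicOpen {E : X.Modules} {n : ℕ} {V : X.Opens} (w s : Fin n → Γ(E, V))
    (hw : BasOn E V w) (P : Matrix (Fin n) (Fin n) Γ(X, V)) (hP : ∀ j, s j = ∑ k, P k j • w k)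
    (y : X) (hy : y ∈ V) : BasAt E s y hy ↔ y ∈ X.basicOpen P.det := by
  obtain ⟨b, hb⟩ := (hw.basAt y hy).exists_basis
  have h1 : b.det (fun j => E.presheaf.germ V y hy (s j)) = X.presheaf.germ V y hy P.det := by
    rw [Module.Basis.det_apply, RingHom.map_det]
    congr 1
    ext k j
    have hb' : ∀ i, E.presheaf.germ V y hy (w i) = b i := fun i => (congrFun hb i).symm
    rw [RingHom.mapMatrix_apply, Matrix.map_apply, Module.Basis.toMatrix_apply, hP, germ_sum]
    simp only [hb']
    exact congrFun (b.repr_sum_self fun k => X.presheaf.germ V y hy (P k j)) k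
  rw [BasAt, isBas_iff_isUnit_det b, h1]
  exact (X.mem_basicOpen P.det y hy).symm

/-- Local form. -/
theorem exists_nbhd {E : X.Modules} (hE : FlatMod.IsFinLocFree E) {n : ℕ} (s : Fin n → Γ(E, ⊤)) (x : X) :
    ∃ V : X.Opens, x ∈ V ∧
      IsCompact ({y : X | ∃ hy : y ∈ (⊤ : X.Opens), BasAt E s y hy} ∩ (V : Set X)) := by
  obtain ⟨W, r, w, hx, hw⟩ := (isFinLocFree_iff_basOn E).mp hE x
  obtain ⟨_, ⟨V, hV, rfl⟩, hxV, hVW⟩ := X.isBasis_affineOpens.exists_subset_of_mem_open hx W.2
  refine ⟨V, hxV, ?_⟩
  have hw' := hw.mono hVW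
  by_cases hr : r = n
  · subst hr
    obtain ⟨b, hb⟩ := (hw' V le_rfl).exists_basis
    have hb' : ∀ i, b i = res E hVW (w i) := fun i => (congrFun hb i).trans (res_self E _ _)
    let P : Matrix (Fin r) (Fin r) Γ(X, V) := b.toMatrix (fun j => res E le_top (s j))
    have hP : ∀ j, res E (le_top : V ≤ ⊤) (s j) = ∑ k, P k j • res E hVW (w k) := by
      intro j
      simp only [← hb', P, Module.Basis.toMatrix_apply]
      exact (b.sum_repr _).symm
    have h1 : {y : X | ∃ hy : y ∈ (⊤ : X.Opens), BasAt E s y hy} ∩ (V : Set X) =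
        (X.basicOpen P.det : Set X) := by
      ext y
      constructor
      · rintro ⟨⟨hy, h⟩, hyV⟩
        exact (basAt_iff_mem_basicOpen _ _ hw' P hP y hyV).1 ((basAt_res s le_top y hyV).2 h)
      · intro h
        have hyV : y ∈ V := X.basicOpen_le _ h
        exact ⟨⟨trivial, (basAt_res s le_top y hyV).1
          ((basAt_iff_mem_basicOpen _ _ hw' P hP y hyV).2 h)⟩, hyV⟩
    rw [h1]
    exact (IsAffineOpen.basicOpen hV _).isCompact
  · have h1 : {y : X | ∃ hy : y ∈ (⊤ : X.Opens), BasAt E s y hy} ∩ (V : Set X) = ∅ := by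
      ext y
      simp only [Set.mem_inter_iff, Set.mem_ofPred_eq, Set.mem_empty_iff_false, iff_false, not_and]
      rintro ⟨hy, h⟩ hyV
      have := (hw'.basAt y hyV)
      exact hr (IsBas.eq_of_isBas this h)
    rw [h1]
    exact isCompact_empty

theorem isCompact_basAt [CompactSpace X] {E : X.Modules} (hE : FlatMod.IsFinLocFree E) {n : ℕ}
    (s : Fin n → Γ(E, ⊤)) : IsCompact {y : X | ∃ hy : y ∈ (⊤ : X.Opens), BasAt E s y hy} := by
  choose V hV hc using exists_nbhd hE s
  obtain ⟨t, ht⟩ := (isCompact_univ : IsCompact (Set.univ : Set X)).elim_finite_subcover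
    (fun x => (V x : Set X)) (fun x => (V x).2) (fun x _ => Set.mem_iUnion.2 ⟨x, hV x⟩)
  have h1 : {y : X | ∃ hy : y ∈ (⊤ : X.Opens), BasAt E s y hy} =
      ⋃ x ∈ t, ({y : X | ∃ hy : y ∈ (⊤ : X.Opens), BasAt E s y hy} ∩ (V x : Set X)) := by
    rw [← Set.inter_iUnion₂]
    exact (Set.inter_eq_left.2 ((Set.subset_univ _).trans ht)).symm
  rw [h1]
  exact t.isCompact_biUnion fun x _ => hc x

end Basis

section Constructible

variable {X : Type*} [TopologicalSpace X] [CompactSpace X]

theorem isOpen_ct {C : Set X} (hC : IsConstructible C) :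
    IsOpen[constructibleTopology X] C ∧ IsOpen[constructibleTopology X] Cᶜ := by
  induction hC using IsConstructible.empty_union_induction with
  | open_retrocompact U hU hU' =>
    have hc : IsCompact U := hU'.isCompact
    exact ⟨hc.isOpen_constructibleTopology_of_isOpen hU,
      IsCompact.isOpen_constructibleTopology_of_isClosed (by rwa [compl_compl]) hU.isClosed_compl⟩
  | union s hs t ht hs' ht' =>
    refine ⟨@IsOpen.union _ _ _ (constructibleTopology X) hs'.1 ht'.1, ?_⟩
    rw [Set.compl_union]
    exact (constructibleTopology X).isOpen_inter _ _ hs'.2 ht'.2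
  | compl s hs hs' =>
    exact ⟨hs'.2, by rw [compl_compl]; exact hs'.1⟩

variable [QuasiSober X] [PrespectralSpace X] [QuasiSeparatedSpace X]

theorem compactSpace_ct : @CompactSpace X (constructibleTopology X) :=
  @Function.Surjective.compactSpace (WithConstructibleTopology X) X _ (constructibleTopology X) _
    (WithTopology.continuous_ofTopology _) (compactSpace_withConstructibleTopology)
    (WithTopology.ofTopology_surjective _)

theorem isConstructible_of_forall {W : Set X}
    (h : ∀ x : X, ∃ C : Set X, x ∈ C ∧ IsConstructible C ∧ IsConstructible (W ∩ C)) :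
    IsConstructible W := by
  choose C hx hC hW using h
  obtain ⟨t, ht⟩ := @IsCompact.elim_finite_subcover X (constructibleTopology X) Set.univ _
    (@CompactSpace.isCompact_univ X (constructibleTopology X) compactSpace_ct)
    C (fun x => (isOpen_ct (hC x)).1) (fun x _ => Set.mem_iUnion.2 ⟨x, hx x⟩)
  have h1 : W = ⋃ x ∈ t, (W ∩ C x) := by
    rw [← Set.inter_iUnion₂]
    exact (Set.inter_eq_left.2 ((Set.subset_univ _).trans ht)).symm
  rw [h1]
  exact IsConstructible.biUnion t.finite_toSet fun x _ => hW x

omit [CompactSpace X] [QuasiSober X] [QuasiSeparatedSpace X] in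
theorem isOpen_ct_of_isOpen {U : Set X} (hU : IsOpen U) : IsOpen[constructibleTopology X] U := by
  obtain ⟨S, hS, rfl⟩ := (PrespectralSpace.isTopologicalBasis (X := X)).open_eq_sUnion hU
  refine (constructibleTopology X).isOpen_sUnion _ fun V hV => ?_
  obtain ⟨h3, h4⟩ := hS hV
  exact h4.isOpen_constructibleTopology_of_isOpen h3

theorem isCompact_of_isConstructible {W : Set X} (hW : IsConstructible W) : IsCompact W := by
  have h1 : @IsCompact X (constructibleTopology X) W :=
    @IsClosed.isCompact X (constructibleTopology X) _ compactSpace_ct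
      ((@isOpen_compl_iff X _ (constructibleTopology X)).1 (isOpen_ct hW).2)
  have h2 : Continuous[constructibleTopology X, ‹TopologicalSpace X›] (id : X → X) :=
    continuous_id_iff_le.2 fun U hU => isOpen_ct_of_isOpen hU
  have h3 := @IsCompact.image X X (constructibleTopology X) ‹TopologicalSpace X› _ _ h1 h2
  rwa [Set.image_id] at h3

end Constructible

end K248.BasCpt
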