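import Groth.Agent.Grpsch.CubeTriv
import Groth.Agent.PicF.K248.Descend
import Mathlib.AlgebraicGeometry.Geometrically.Connected
import Mathlib.AlgebraicGeometry.Geometrically.Reduced

/-!
# The theorem of the cube with one factor only geometrically connected and geometrically reduced

`WGood D`: as `D.Good`, but the fibres of `D.pY` are only geometrically connected and geometrically reduced.
* `exists_open`: the locus of the base where a module trivial along both sections is trivial is open;
* `WGood.triv`: over an irreducible base, with `D.Y` reduced, a module trivial along both sections and trivial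
  after base change to some nonempty scheme is trivial.
-/

set_option autoImplicit false
universe u v

open AlgebraicGeometry CategoryTheory Limits IsLocalRing
open Groth.Agent Groth.Agent.Grpsch Groth.Agent.Grpsch.CubeData Groth.Agent.Fdesc.LocGen

namespace K248.CubeGC

/-- `f_* O = O` for flat proper morphisms with geometrically reduced, geometrically connected fibres. -/
theorem isIso_app {X S : Scheme.{u}} (f : X ⟶ S) [IsProper f] [Flat f]
    [LocallyOfFinitePresentation f] [GeometricallyReduced f] [GeometricallyConnected f]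
    (V : S.Opens) : IsIso (f.app V) := by
  refine S0981.result f (fun K _ _ g => ?_) V
  have h1 : GeometricallyReduced (pullback.snd f g) := inferInstance
  have h2 : GeometricallyConnected (pullback.snd f g) := inferInstance
  exact ⟨inferInstance, GeometricallyConnected.geometrically_connectedSpace _ _ _ (.of_hasPullback _ _)⟩

lemma surjective_appTop {X S : Scheme.{u}} (f : X ⟶ S) [IsProper f] [Flat f]
    [LocallyOfFinitePresentation f] [GeometricallyReduced f] [GeometricallyConnected f] :
    Function.Surjective f.appTop.hom := by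
  have h1 : IsIso f.appTop := isIso_app f ⊤
  exact (ConcreteCategory.bijective_of_isIso f.appTop).2

/-- Finiteness and flatness, `pX` geometrically integral, `pY` geometrically reduced and connected. -/
structure WGood {S : Scheme.{u}} (D : Data S) : Prop where
  flatX : Flat D.pX
  properX : IsProper D.pX
  lfpX : LocallyOfFinitePresentation D.pX
  giX : GeometricallyIntegral D.pX
  flatY : Flat D.pY
  properY : IsProper D.pY
  lfpY : LocallyOfFinitePresentation D.pY
  grY : GeometricallyReduced D.pY
  gcY : GeometricallyConnected D.pY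

namespace WGood

variable {S T : Scheme.{u}} {D : Data S}

lemma baseChange (h : WGood D) (a : T ⟶ S) : WGood (D.baseChange a) where
  flatX := have := h.flatX; inferInstanceAs (Flat (pullback.snd D.pX a))
  properX := have := h.properX; inferInstanceAs (IsProper (pullback.snd D.pX a))
  lfpX := have := h.lfpX; inferInstanceAs (LocallyOfFinitePresentation (pullback.snd D.pX a))
  giX := have := h.giX; inferInstanceAs (GeometricallyIntegral (pullback.snd D.pX a))
  flatY := have := h.flatY; inferInstanceAs (Flat (pullback.snd D.pY a))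
  properY := have := h.properY; inferInstanceAs (IsProper (pullback.snd D.pY a))
  lfpY := have := h.lfpY; inferInstanceAs (LocallyOfFinitePresentation (pullback.snd D.pY a))
  grY := have := h.grY; inferInstanceAs (GeometricallyReduced (pullback.snd D.pY a))
  gcY := have := h.gcY; inferInstanceAs (GeometricallyConnected (pullback.snd D.pY a))

lemma flat (h : WGood D) : Flat D.p := by
  have := h.flatX
  have := h.flatY
  have : Flat D.q₁ := MorphismProperty.of_isPullback D.H.flip h.flatY
  infer_instance

lemma proper (h : WGood D) : IsProper D.p := by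
  have := h.properX
  have : IsProper D.q₁ := MorphismProperty.of_isPullback D.H.flip h.properY
  infer_instance

lemma lfp (h : WGood D) : LocallyOfFinitePresentation D.p := by
  have := h.lfpX
  have : LocallyOfFinitePresentation D.q₁ := MorphismProperty.of_isPullback D.H.flip h.lfpY
  infer_instance

lemma app_p (h : WGood D) (U : S.Opens) : IsIso (D.p.app U) := by
  have := h.flatX
  have := h.properX
  have := h.lfpX
  have := h.giX
  have := h.flatY
  have := h.properY
  have := h.lfpY
  have := h.grY
  have := h.gcY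
  have h1 : Flat D.q₂ := MorphismProperty.of_isPullback D.H h.flatX
  have h2 : IsProper D.q₂ := MorphismProperty.of_isPullback D.H h.properX
  have h3 : LocallyOfFinitePresentation D.q₂ := MorphismProperty.of_isPullback D.H h.lfpX
  have h4 : GeometricallyIntegral D.q₂ := MorphismProperty.of_isPullback D.H h.giX
  have h5 : ∀ V, IsIso (D.q₂.app V) := fun V => CubeData.isIso_app D.q₂ V
  have h6 : ∀ V, IsIso (D.pY.app V) := fun V => isIso_app D.pY V
  have h7 : IsIso ((D.q₂ ≫ D.pY).app U) := by
    rw [Scheme.Hom.comp_app]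
    exact IsIso.comp_isIso' (h6 U) (h5 (D.pY ⁻¹ᵁ U))
  rw [D.q₂_pY] at h7
  exact h7

/-- Lifting triviality along a small closed immersion of local affine schemes. -/
lemma triv_of_small [IsAffine S] [IsLocalRing Γ(S, ⊤)] (h : WGood D) {S' : Scheme.{u}}
    (g : S' ⟶ S) [IsClosedImmersion g] [Surjective g] (ε : Γ(S, ⊤))
    (hε : ∀ a : Γ(S, ⊤), a * ε = 0 ↔ a ∈ maximalIdeal Γ(S, ⊤))
    (hεm : ε ∈ maximalIdeal Γ(S, ⊤)) (hg : RingHom.ker g.appTop.hom = Ideal.span {ε})
    (L : D.P.Modules) (hL : PicF.IsInvertible L)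
    (hs : Triv ((Scheme.Modules.pullback D.s).obj L))
    (hs' : Triv ((Scheme.Modules.pullback D.s').obj L))
    (hS' : Triv ((Scheme.Modules.pullback (pullback.fst D.p g)).obj L)) : Triv L := by
  have := h.flatX
  have := h.properX
  have := h.lfpX
  have := h.giX
  have := h.flatY
  have := h.properY
  have := h.lfpY
  have := h.grY
  have := h.gcY
  obtain ⟨τ, hτ⟩ := triv_iff.mp hs
  obtain ⟨τ', hτ'⟩ := triv_iff.mp hs'
  obtain ⟨ρ, hρ⟩ := triv_iff.mp hS'
  exact triv_iff.mpr (CubeDeform.deform (k := pullback.fst D.pY g) (pY' := pullback.snd D.pY g)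
    D.H rfl D.q₂_pY (.of_hasPullback D.p g)
    (.of_hasPullback D.pY g) ε hε hεm hg (bijective_appTop D.pX).2 (surjective_appTop D.pY)
    (surjective_appTop (pullback.snd D.pY g)) D.hx D.hy D.hs₁ D.hs₂ D.hs'₁ hL hτ hτ' hρ)

/-- Lifting triviality along `Spec B ⟶ Spec A`, `B = A / (t)` with `Ann t = 𝔪`. -/
lemma triv_of_small_spec {A B : CommRingCat.{u}} [IsLocalRing A] (φ : A ⟶ B)
    (hφ : Function.Surjective φ.hom) (t : A) (ht : t ≠ 0) (htm : t ∈ maximalIdeal A)
    (hmt : ∀ a ∈ maximalIdeal A, a * t = 0) (hker : RingHom.ker φ.hom = Ideal.span {t})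
    {D : Data (Spec A)} (h : WGood D) (L : D.P.Modules) (hL : PicF.IsInvertible L)
    (hs : Triv ((Scheme.Modules.pullback D.s).obj L))
    (hs' : Triv ((Scheme.Modules.pullback D.s').obj L))
    (hS' : Triv ((Scheme.Modules.pullback (pullback.fst D.p (Spec.map φ))).obj L)) :
    Triv L := by
  have hci : IsClosedImmersion (Spec.map φ) := IsClosedImmersion.spec_of_surjective φ hφ
  have hsurj : Surjective (Spec.map φ) := by
    have h1 : ∀ x : PrimeSpectrum A, x ∈ Set.range (PrimeSpectrum.comap φ.hom) := by
      intro x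
      rw [range_comap_of_surjective _ _ hφ, hker, PrimeSpectrum.mem_zeroLocus,
        SetLike.coe_subset_coe, Ideal.span_singleton_le_iff_mem]
      exact x.isPrime.mem_of_pow_mem 2 (by rw [pow_two, hmt t htm]; exact zero_mem _)
    exact ⟨h1⟩
  refine h.triv_of_small (Spec.map φ) ((Scheme.ΓSpecIso A).inv.hom t) ?_ ?_
    (ker_appTop_specMap φ t hker) L hL hs hs' hS'
  · intro a
    obtain ⟨a, rfl⟩ : ∃ b, (Scheme.ΓSpecIso A).inv.hom b = a :=
      ⟨(Scheme.ΓSpecIso A).hom.hom a, congr(($((Scheme.ΓSpecIso A).hom_inv_id)).hom a)⟩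
    rw [mem_maximalIdeal_ΓSpec, ← map_mul]
    have hb : Function.Bijective (Scheme.ΓSpecIso A).inv.hom :=
      ConcreteCategory.bijective_of_isIso (Scheme.ΓSpecIso A).inv
    rw [map_eq_zero_iff _ hb.1]
    refine ⟨fun h0 => ?_, hmt a⟩
    by_contra hu
    rw [mem_maximalIdeal, mem_nonunits_iff, not_not] at hu
    exact ht ((hu.mul_right_eq_zero).mp h0)
  · rw [mem_maximalIdeal_ΓSpec]; exact htm

/-- Lifting triviality along `Spec (O / I₂) ⟶ Spec (O / I₁)`. -/
lemma triv_of_quot (h : WGood D) (L : D.P.Modules) (hL : PicF.IsInvertible L)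
    (hs : Triv ((Scheme.Modules.pullback D.s).obj L))
    (hs' : Triv ((Scheme.Modules.pullback D.s').obj L))
    (O : CommRingCat.{u}) [IsLocalRing O] (b : Spec O ⟶ S) (I₁ : Ideal O) (t : O) (ht : t ∉ I₁)
    (htm : t ∈ maximalIdeal O) (hmt : ∀ a ∈ maximalIdeal O, a * t ∈ I₁)
    (hT : Triv ((Scheme.Modules.pullback (pullback.fst D.p
      (Spec.map (CommRingCat.ofHom (Ideal.Quotient.mk (I₁ ⊔ Ideal.span {t}))) ≫ b))).obj L)) :
    Triv ((Scheme.Modules.pullback (pullback.fst D.p
      (Spec.map (CommRingCat.ofHom (Ideal.Quotient.mk I₁)) ≫ b))).obj L) := by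
  have hne : I₁ ≠ ⊤ := fun h0 => ht (h0 ▸ Submodule.mem_top)
  have : Nontrivial (O ⧸ I₁) := Ideal.Quotient.nontrivial_iff.mpr hne
  have hloc : IsLocalRing (CommRingCat.of (O ⧸ I₁)) :=
    IsLocalRing.of_surjective' (Ideal.Quotient.mk I₁) Ideal.Quotient.mk_surjective
  let φ : CommRingCat.of (O ⧸ I₁) ⟶ CommRingCat.of (O ⧸ (I₁ ⊔ Ideal.span {t})) :=
    CommRingCat.ofHom (Ideal.Quotient.factor le_sup_left)
  let a : Spec (CommRingCat.of (O ⧸ I₁)) ⟶ S :=
    Spec.map (CommRingCat.ofHom (Ideal.Quotient.mk I₁)) ≫ b
  have hφa : Spec.map φ ≫ a =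
      Spec.map (CommRingCat.ofHom (Ideal.Quotient.mk (I₁ ⊔ Ideal.span {t}))) ≫ b := by
    rw [← Category.assoc, ← Spec.map_comp]
    rfl
  have hloc' : IsLocalHom (Ideal.Quotient.mk I₁) :=
    IsLocalHom.of_surjective _ Ideal.Quotient.mk_surjective
  refine (h.baseChange a).triv_of_small_spec φ (Ideal.Quotient.factor_surjective le_sup_left)
    (Ideal.Quotient.mk I₁ t) (fun h0 => ht (Ideal.Quotient.eq_zero_iff_mem.mp h0)) ?_ ?_ ?_
    ((Scheme.Modules.pullback (pullback.fst (D.q₁ ≫ D.pX) a)).obj L)
    (isInvertible_pullback _ hL) ?_ ?_ ?_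
  · exact (mem_maximalIdeal _).mpr fun hu =>
      (mem_maximalIdeal t).mp htm (isUnit_of_map_unit (Ideal.Quotient.mk I₁) t hu)
  · intro c hc
    obtain ⟨c, rfl⟩ := Ideal.Quotient.mk_surjective c
    have h1 : c ∈ maximalIdeal O := (mem_maximalIdeal c).mpr fun hu =>
      (mem_maximalIdeal _).mp hc (hu.map (Ideal.Quotient.mk I₁))
    exact (map_mul (Ideal.Quotient.mk I₁) c t).symm.trans
      (Ideal.Quotient.eq_zero_iff_mem.mpr (hmt c h1))
  · have h1 : RingHom.ker (Ideal.Quotient.factor (le_sup_left : I₁ ≤ I₁ ⊔ Ideal.span {t})) =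
        (I₁ ⊔ Ideal.span {t}).map (Ideal.Quotient.mk I₁) := Ideal.Quotient.factor_ker _
    refine h1.trans ?_
    rw [Ideal.map_sup, Ideal.map_quotient_self, bot_sup_eq, Ideal.map_span, Set.image_singleton]
  · exact triv_square (f := pullback.fst D.pY a) (g := D.s) (D.bs_fst a).symm L hs
  · exact triv_square (f := pullback.fst D.pX a) (g := D.s') (D.bs'_fst a).symm L hs'
  · rw [← hφa] at hT
    exact triv_baseChange D.p a (Spec.map φ) (D.baseChange a).p (D.bq₁_snd a) L hT

/-- The locus of the base where a module trivial along both sections is trivial is open. -/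
theorem exists_open (h : WGood D) (L : D.P.Modules) (hL : PicF.IsInvertible L)
    (hs : Triv ((Scheme.Modules.pullback D.s).obj L))
    (hs' : Triv ((Scheme.Modules.pullback D.s').obj L)) :
    ∃ (W : Scheme.{u}) (j : W ⟶ S), IsOpenImmersion j ∧ ∀ (T : Scheme.{u}) (a : T ⟶ S),
      (∃ g', g' ≫ j = a) ↔ Triv ((Scheme.Modules.pullback (pullback.fst D.p a)).obj L) := by
  have := h.flat
  have := h.proper
  have := h.lfp
  obtain ⟨W, j, hj1, hj2, hj⟩ := S1431.result D.p
    (fun T g U => by
      have h1 := (h.baseChange g).app_p U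
      have h2 : (D.baseChange g).p = pullback.snd D.p g := D.bq₁_snd g
      rw [← h2]
      exact h1) L
    (CubeClosed.isFinLocFree_of_isInvertible hL)
  have key : ∀ (T : Scheme.{u}) (a : T ⟶ S), (∃ g', g' ≫ j = a) ↔
      Triv ((Scheme.Modules.pullback (pullback.fst D.p a)).obj L) :=
    fun T a => (hj T a).trans (D.exists_iff_triv a L hs)
  have hopen : IsOpenImmersion j :=
    CubeOpen2.isOpenImmersion_of_lift j (fun z I₁ t ht htm hmt hg => (key _ _).mpr
      (h.triv_of_quot L hL hs hs' (S.presheaf.stalk z) (S.fromSpecStalk z) I₁ t ht htm hmt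
        ((key _ _).mp hg)))
  exact ⟨W, j, hopen, key⟩

/-- **Theorem of the cube**, one factor geometrically integral, the other geometrically reduced and
geometrically connected, over an irreducible base. -/
theorem triv [IrreducibleSpace S] (h : WGood D) [IsReduced D.Y] (L : D.P.Modules)
    (hL : PicF.IsInvertible L) (hs : Triv ((Scheme.Modules.pullback D.s).obj L))
    (hs' : Triv ((Scheme.Modules.pullback D.s').obj L)) {T : Scheme.{u}} [Nonempty T] (a : T ⟶ S)
    (ha : Triv ((Scheme.Modules.pullback (pullback.fst D.p a)).obj L)) : Triv L := by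
  obtain ⟨W, j, hj, key⟩ := h.exists_open L hL hs hs'
  have h1 : Flat D.q₂ := MorphismProperty.of_isPullback D.H h.flatX
  have h2 : IsProper D.q₂ := MorphismProperty.of_isPullback D.H h.properX
  have h3 : LocallyOfFinitePresentation D.q₂ := MorphismProperty.of_isPullback D.H h.lfpX
  have h4 : GeometricallyIntegral D.q₂ := MorphismProperty.of_isPullback D.H h.giX
  have := h.flatY
  have := h.lfpY
  have hcl := CubeClosed.isClosed_trivialLocus D.q₂ L hL
  obtain ⟨g, hg⟩ := (key T a).2 ha
  -- the preimage of the open locus is dense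
  have hWne : (Set.range j).Nonempty := by
    obtain ⟨t⟩ := (inferInstance : Nonempty T)
    exact ⟨_, g t, rfl⟩
  have hWd : Dense (Set.range j) := j.isOpenEmbedding.isOpen_range.dense hWne
  have hYo : IsOpenMap D.pY := D.pY.isOpenMap
  have hd : Dense (D.pY ⁻¹' Set.range j) := hWd.preimage hYo
  have hsub : D.pY ⁻¹' Set.range j ⊆ {z : D.Y | Nonempty
      ((Scheme.Modules.pullback (D.q₂.fiberι z)).obj L ≅ Coh.structureModule (D.q₂.fiber z))} := by
    intro z hz
    have h5 : Triv ((Scheme.Modules.pullback (pullback.fst D.p j)).obj L) :=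
      (key W j).1 ⟨𝟙 W, Category.id_comp j⟩
    have h6 : Set.range (D.Y.fromSpecResidueField z ≫ D.pY) ⊆ Set.range j := by
      rintro _ ⟨w, rfl⟩
      rw [Scheme.Hom.comp_apply]
      have h7 : (D.Y.fromSpecResidueField z) w = z := by
        have := Scheme.range_fromSpecResidueField (X := D.Y) z
        have h8 : (D.Y.fromSpecResidueField z) w ∈ Set.range (D.Y.fromSpecResidueField z) := ⟨w, rfl⟩
        rw [this] at h8
        exact h8
      rw [h7]
      exact hz
    let l := IsOpenImmersion.lift j (D.Y.fromSpecResidueField z ≫ D.pY) h6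
    have hl : l ≫ j = D.Y.fromSpecResidueField z ≫ D.pY := IsOpenImmersion.lift_fac j _ h6
    have h9 : D.q₂.fiberι z ≫ D.p = (D.q₂.fiberToSpecResidueField z ≫ l) ≫ j := by
      rw [Category.assoc, hl, ← D.q₂_pY, ← Category.assoc, D.q₂.fiber_fac, Category.assoc]
    have h10 := h5.pullback (pullback.lift (D.q₂.fiberι z) (D.q₂.fiberToSpecResidueField z ≫ l) h9)
    rw [← triv_comp, triv_congr (pullback.lift_fst _ _ _)] at h10
    exact h10
  have huniv : {z : D.Y | Nonempty
      ((Scheme.Modules.pullback (D.q₂.fiberι z)).obj L ≅ Coh.structureModule (D.q₂.fiber z))} =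
      Set.univ := by
    rw [← hcl.closure_eq]
    exact (hd.mono hsub).closure_eq
  have hsurj : Surjective D.q₂ := by
    have := h.giX
    infer_instance
  obtain ⟨N, hN, ⟨e⟩⟩ := K248.Descend.exists_pull_of_triv_fibres D.q₂
    (fun T g U => CubeData.isIso_app (pullback.snd D.q₂ g) U) L hL hsurj
    (fun z => by
      have h11 : z ∈ {z : D.Y | Nonempty
        ((Scheme.Modules.pullback (D.q₂.fiberι z)).obj L ≅ Coh.structureModule (D.q₂.fiber z))} := by
        rw [huniv]; trivial
      exact h11)
  have hN1 : Triv N := by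
    have h12 : Triv ((Scheme.Modules.pullback D.s).obj ((Scheme.Modules.pullback D.q₂).obj N)) :=
      hs.of_iso ((Scheme.Modules.pullback D.s).mapIso e)
    rw [← triv_comp, triv_congr D.hs₂, triv_id] at h12
    exact h12
  exact (hN1.pullback D.q₂).of_iso e.symm

end WGood

end K248.CubeGC
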