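import Groth.Agent.PicF.K248.BasCpt
import Groth.Agent.PicF.K248.Basic

/-!
# The locus where a finite locally free module descends is quasi-compact
-/

set_option autoImplicit false
set_option linter.style.haveILetI false
universe u

open CategoryTheory CategoryTheory.Limits AlgebraicGeometry TopologicalSpace Opposite Topology

namespace K248.DescQC

open Groth.Agent Groth.Agent.Flat2F Groth.Agent.Flat2F.SecBasis Groth.Agent.Flat2F.BasAlg
open Groth.Agent.Flat2F.BCSec Groth.Agent.Flat2F.LocBas Groth.Agent.Flat2F.DescLocal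
open Groth.Agent.Flat2F.ImmGlue

section Field

/-- A morphism from the spectrum of a field into the image of a preimmersion factors. -/
theorem exists_factor {Z S : Scheme.{u}} (j : Z ⟶ S) [IsPreimmersion j] {K : Type u} [Field K]
    (a : Spec (CommRingCat.of K) ⟶ S) (h : ∀ z, a z ∈ Set.range j) : ∃ g, g ≫ j = a := by
  have h1 : IsPreimmersion (pullback.snd j a) := inferInstance
  have h2 : Surjective (pullback.snd j a) := by
    refine ⟨fun z => ?_⟩
    obtain ⟨w, hw⟩ := h z
    obtain ⟨v, -, hv⟩ := Scheme.Pullback.exists_preimage_pullback (f := j) (g := a) w z hw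
    exact ⟨v, hv⟩
  have h3 : IsClosedImmersion (pullback.snd j a) := IsClosedImmersion.of_isPreimmersion _ (by
    rw [Set.range_eq_univ.2 h2.surj]
    exact isClosed_univ)
  have h4 : IsIso (pullback.snd j a) := isIso_of_isClosedImmersion_of_surjective _
  refine ⟨inv (pullback.snd j a) ≫ pullback.fst j a, ?_⟩
  rw [Category.assoc, pullback.condition, IsIso.inv_hom_id_assoc]

variable {B : CommRingCat.{u}}

/-- The residue field at a point of `Spec B`. -/
noncomputable abbrev κ (t : Spec B) : CommRingCat.{u} := CommRingCat.of t.asIdeal.ResidueField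

/-- The map to the residue field. -/
noncomputable def κm (t : Spec B) : B ⟶ κ t := CommRingCat.ofHom (algebraMap B t.asIdeal.ResidueField)

theorem κm_apply (t : Spec B) (z : Spec (κ t)) : (Spec.map (κm t)).base z = t := by
  have hz : z = (⊥ : PrimeSpectrum t.asIdeal.ResidueField) := Subsingleton.elim _ _
  subst hz
  apply PrimeSpectrum.ext
  ext b
  change algebraMap B t.asIdeal.ResidueField b ∈ (⊥ : Ideal t.asIdeal.ResidueField) ↔ _
  rw [Ideal.mem_bot, Ideal.algebraMap_residueField_eq_zero]

end Field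

variable {A : CommRingCat.{u}} {X : Scheme.{u}} {f : X ⟶ Spec A} {E : X.Modules} (R : RepH0 f E)

section Dual

variable {B : CommRingCat.{u}} {X' : Scheme.{u}} {φ : A ⟶ B} {a : X' ⟶ X} {p : X' ⟶ Spec B}
  (H : IsPullback a p f (Spec.map φ))

/-- Composition of a semilinear functional with a ring map. -/
def compF {C : CommRingCat.{u}} (β : R.M →ₛₗ[φ.hom] B) (χ : B ⟶ C) : R.M →ₛₗ[(φ ≫ χ).hom] C where
  toFun x := χ (β x)
  map_add' x y := by rw [map_add, map_add]
  map_smul' c x := by
    rw [LinearMap.map_smulₛₗ, smul_eq_mul, map_mul]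
    rfl

theorem isBas_dual {n : ℕ} (m : Fin n → R.M) (hm : Submodule.span A (Set.range m) = ⊤)
    (β : Fin n → (R.M →ₛₗ[φ.hom] B)) (hβ : ∀ i j, β i (m j) = if i = j then 1 else 0) :
    IsBas B β := by
  constructor
  · intro c c' h
    funext j
    have h1 := DFunLike.congr_fun h (m j)
    simpa [LinearMap.sum_apply, hβ] using h1
  · intro α
    refine ⟨fun j => α (m j), ?_⟩
    refine semilin_ext R hm fun j => ?_
    simp [LinearMap.sum_apply, hβ]

include H in
/-- Over a stratum where `M` has a basis, the module descends at `t` exactly when the dual basis of sections is a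
basis at all points over `t`. -/
theorem CP_iff_notMem (hO : UO f) (hE : FlatMod.IsFinLocFree E) {n : ℕ} (m : Fin n → R.M)
    (hm : Submodule.span A (Set.range m) = ⊤) (β : Fin n → (R.M →ₛₗ[φ.hom] B))
    (hβ : ∀ i j, β i (m j) = if i = j then 1 else 0) (t : Spec B) :
    CP f E (Spec.map (φ ≫ κm t)) ↔ t ∉ p.base '' {x : X' | ∃ hx : x ∈ (⊤ : X'.Opens),
      BasAt _ (fun i => R.θ H (β i)) x hx}ᶜ := by
  have hE' : FlatMod.IsFinLocFree ((Scheme.Modules.pullback a).obj E) := isFinLocFree_pullback' a hE
  have Hκ : IsPullback (pullback.fst p (Spec.map (κm t)) ≫ a) (pullback.snd p (Spec.map (κm t))) f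
      (Spec.map (φ ≫ κm t)) := by
    rw [Spec.map_comp]
    exact (IsPullback.of_hasPullback _ _).paste_horiz H
  have h8 : ∀ i, R.θ Hκ (compF R (β i) (κm t)) = tr (pullback.fst p (Spec.map (κm t))) a _ rfl E
      (U := ⊤) (V := ⊤) le_top (R.θ H (β i)) := fun i =>
    R.nat H (κm t) Hκ _ rfl pullback.condition (β i) (compF R (β i) (κm t)) fun _ => rfl
  have hβ' : ∀ i j, compF R (β i) (κm t) (m j) = if i = j then 1 else 0 := by
    intro i j
    change κm t (β i (m j)) = _
    rw [hβ]
    split_ifs
    · rw [map_one]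
    · rw [map_zero]
  rw [CP_iff Hκ]
  constructor
  · rintro hL ⟨x, hx, hxt⟩
    obtain ⟨pt⟩ : Nonempty (Spec (κ t)) := inferInstance
    obtain ⟨V, r, e, hV, he⟩ := hL pt
    have hV' : (⊤ : (pullback p (Spec.map (κm t))).Opens) ≤ (pullback.snd p (Spec.map (κm t))) ⁻¹ᵁ V := by
      intro x _
      have h1 : (pullback.snd p (Spec.map (κm t))).base x = pt :=
        Subsingleton.elim (α := PrimeSpectrum t.asIdeal.ResidueField) _ _
      change (pullback.snd p (Spec.map (κm t))).base x ∈ V
      rw [h1]
      exact hV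
    have he' := he.mono hV'
    choose α hα using fun i => (R.bij Hκ).2 (res _ hV' (e i))
    have hB := isBas_of_theta R hO Hκ _ he' α hα
    have hB' := isBas_dual R m hm _ hβ'
    have : Nontrivial (κ t) := inferInstanceAs (Nontrivial t.asIdeal.ResidueField)
    obtain rfl : r = n := IsBas.eq_of_isBas hB hB'
    have h7 := basOn_theta R Hκ hO m hm _ he' _ hβ'
    simp only [h8] at h7
    obtain ⟨xκ, hxκ1, -⟩ := Scheme.Pullback.exists_preimage_pullback (f := p)
      (g := Spec.map (κm t)) x pt (hxt.trans (κm_apply t pt).symm)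
    have h9 := basAt_of_tr (h := rfl) (U := ⊤) (V := ⊤) le_top (w := xκ) trivial hE'
      (h7.basAt xκ trivial)
    apply hx
    refine ⟨trivial, ?_⟩
    convert h9
    exact hxκ1.symm
  · intro ht z
    refine ⟨⊤, n, fun i => tr (pullback.fst p (Spec.map (κm t))) a _ rfl E (U := ⊤)
      (V := pullback.snd p (Spec.map (κm t)) ⁻¹ᵁ ⊤) le_top (R.θ H (β i)), trivial, ?_⟩
    refine basOn_of_basAt fun x hx => ?_
    refine basAt_tr (h := rfl) le_top (V := pullback.snd p (Spec.map (κm t)) ⁻¹ᵁ ⊤) hx ?_
    by_contra hne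
    apply ht
    refine ⟨(pullback.fst p (Spec.map (κm t))).base x, ?_, ?_⟩
    · rintro ⟨hx', hb⟩
      exact hne hb
    · have h3 : p.base ((pullback.fst p (Spec.map (κm t))).base x) =
          (Spec.map (κm t)).base ((pullback.snd p (Spec.map (κm t))).base x) :=
        congrArg (fun v : pullback p (Spec.map (κm t)) ⟶ Spec B => v.base x) pullback.condition
      rw [h3, κm_apply]

include H in
theorem isConstructible_CP [IsProper f] [LocallyOfFinitePresentation f] (hO : UO f)
    (hE : FlatMod.IsFinLocFree E) {n : ℕ} (m : Fin n → R.M)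
    (hm : Submodule.span A (Set.range m) = ⊤) (β : Fin n → (R.M →ₛₗ[φ.hom] B))
    (hβ : ∀ i j, β i (m j) = if i = j then 1 else 0) :
    IsConstructible {t : Spec B | CP f E (Spec.map (φ ≫ κm t))} := by
  have hp1 : IsProper p := MorphismProperty.of_isPullback H inferInstance
  have hp2 : LocallyOfFinitePresentation p := MorphismProperty.of_isPullback H inferInstance
  have hc : CompactSpace X' := (quasiCompact_iff_compactSpace p).mp inferInstance
  have hq : QuasiSeparatedSpace X' := (quasiSeparated_iff_quasiSeparatedSpace p).mp inferInstance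
  have h1 : {t : Spec B | CP f E (Spec.map (φ ≫ κm t))} =
      (p '' {x : X' | ∃ hx : x ∈ (⊤ : X'.Opens), BasAt _ (fun i => R.θ H (β i)) x hx}ᶜ)ᶜ := by
    ext t
    exact CP_iff_notMem R H hO hE m hm β hβ t
  rw [h1, isConstructible_compl]
  refine p.isConstructible_image ?_
  rw [isConstructible_compl]
  exact IsCompact.isConstructible (BasCpt.isCompact_basAt (isFinLocFree_pullback' a hE) _)
    (isOpen_basAt (isFinLocFree_pullback' a hE) _)

end Dual

section Algebra

variable {A₁ K M : Type u} [CommRing A₁] [Field K] [AddCommGroup M] [Module A₁ M]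

theorem exists_isBas [Module.Finite A₁ M] (φ : A₁ →+* K) :
    ∃ (n : ℕ) (α : Fin n → (M →ₛₗ[φ] K)), IsBas K α := by
  obtain ⟨N, x, hx⟩ := Module.Finite.exists_fin (R := A₁) (M := M)
  let ev : (M →ₛₗ[φ] K) →ₗ[K] (Fin N → K) :=
    { toFun := fun α i => α (x i)
      map_add' := fun _ _ => rfl
      map_smul' := fun _ _ => rfl }
  have hev : Function.Injective ev := by
    intro α α' h
    exact LinearMap.ext_on_range (v := x) hx fun i => congrFun h i
  have : Module.Finite K (M →ₛₗ[φ] K) := Module.Finite.of_injective ev hev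
  exact ⟨_, _, isBas_basis (Module.finBasis K (M →ₛₗ[φ] K))⟩

theorem relIdeal_le_ker_of_isBas {φ : A₁ →+* K} {n : ℕ} {m : Fin n → M}
    (hm : Submodule.span A₁ (Set.range m) = ⊤) {α : Fin n → (M →ₛₗ[φ] K)} (hα : IsBas K α) :
    relIdeal (A := A₁) m ≤ RingHom.ker φ := by
  refine relIdeal_le fun c hc j => ?_
  have hdet : (Matrix.of fun i j => α i (m j)).det ≠ 0 := by
    intro h0
    obtain ⟨v, hv0, hv⟩ := Matrix.exists_vecMul_eq_zero_iff.mpr h0
    apply hv0
    apply hα.1
    refine LinearMap.ext_on_range (v := m) hm fun j => ?_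
    have h2 := congrFun hv j
    simp only [Pi.zero_apply, zero_smul, Finset.sum_const_zero, LinearMap.zero_apply,
      LinearMap.sum_apply, LinearMap.smul_apply]
    exact h2
  have h1 : Matrix.mulVec (Matrix.of fun i j => α i (m j)) (fun j => φ (c j)) = 0 := by
    funext i
    have h2 : α i (∑ j, c j • m j) = 0 := by rw [hc, map_zero]
    rw [map_sum] at h2
    simp only [LinearMap.map_smulₛₗ, smul_eq_mul] at h2
    rw [Pi.zero_apply, ← h2]
    simp only [Matrix.mulVec, dotProduct, Matrix.of_apply]
    exact Finset.sum_congr rfl fun j _ => mul_comm _ _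
  exact congrFun (Matrix.eq_zero_of_mulVec_eq_zero hdet h1) j

end Algebra

theorem exists_away {A : CommRingCat.{u}} {K : Type u} [Field K] (ψ : A ⟶ CommRingCat.of K) (g : A)
    (hg : ψ.hom g ≠ 0) : ∃ (Ag : CommRingCat.{u}) (alg : A ⟶ Ag) (φg : Ag ⟶ CommRingCat.of K),
      IsOpenImmersion (Spec.map alg) ∧ IsUnit (alg.hom g) ∧ alg ≫ φg = ψ := by
  refine ⟨CommRingCat.of (Localization.Away g), CommRingCat.ofHom (algebraMap A (Localization.Away g)),
    CommRingCat.ofHom (IsLocalization.Away.lift (S := Localization.Away g) g (g := ψ.hom)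
      (IsUnit.mk0 _ hg)), inferInstance, IsLocalization.Away.algebraMap_isUnit g, ?_⟩
  ext x
  exact IsLocalization.Away.lift_eq g (IsUnit.mk0 _ hg) x

include R in
theorem exists_stratum_aux [IsProper f] [LocallyOfFinitePresentation f] (hO : UO f)
    (hE : FlatMod.IsFinLocFree E) {K : Type u} [Field K] (ψ : A ⟶ CommRingCat.of K) :
    ∃ (B : CommRingCat.{u}) (φ : A ⟶ B), LocallyOfFinitePresentation (Spec.map φ) ∧
      (∃ χ : B ⟶ CommRingCat.of K, φ ≫ χ = ψ) ∧
      IsConstructible {t : Spec B | CP f E (Spec.map (φ ≫ κm t))} := by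
  have := R.fp
  obtain ⟨n, α, hα⟩ := exists_isBas (M := R.M) ψ.hom
  obtain ⟨m, g, hg, hm⟩ := GenAlg.exists_gens ψ.hom α hα
  obtain ⟨Ag, alg, φg, hj, hu, hφg⟩ := exists_away ψ g hg
  have H := IsPullback.of_hasPullback f (Spec.map alg)
  let Rg := RepH0Desc.ofPullback H R
  have hOg : UO (pullback.snd f (Spec.map alg)) := hO.baseChange H
  have hEg := isFinLocFree_pullback' (pullback.fst f (Spec.map alg)) hE
  let mg : Fin n → Rg.M := letI := alg.hom.toAlgebra; fun j => ((1 : Ag) ⊗ₜ[A] m j)
  have hmg : Submodule.span Ag (Set.range mg) = ⊤ := span_ext alg.hom g hu m hm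
  -- the extended basis
  have hψ : ψ.hom = φg.hom.comp alg.hom := by rw [← hφg]; rfl
  have hbij := RepH0Desc.resExt_bijective (M₀ := R.M) hψ
  choose αg hαg using fun i => hbij.2 (α i)
  have hBg : IsBas K αg := by
    let e : (RepH0Desc.Ext A Ag R.M alg.hom →ₛₗ[φg.hom] K) →+ (R.M →ₛₗ[ψ.hom] K) :=
      { toFun := RepH0Desc.resExt hψ
        map_zero' := rfl
        map_add' := fun _ _ => rfl }
    refine IsBas.of_semilinear (R := K) (S := K) id Function.bijective_id e hbij (fun _ _ => rfl) ?_
    have h1 : (fun i => e (αg i)) = α := funext hαg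
    rw [h1]
    exact hα
  have hker : relIdeal (A := Ag) mg ≤ RingHom.ker φg.hom := relIdeal_le_ker_of_isBas hmg hBg
  have hfg : (relIdeal (A := Ag) mg).FG := by
    have : Module.FinitePresentation Ag Rg.M := Rg.fp
    exact relIdeal_fg hmg
  set I := relIdeal (A := Ag) mg with hI
  obtain ⟨β, hβ⟩ := exists_dual hmg (CommRingCat.ofHom (Ideal.Quotient.mk I)).hom
    (fun x hx => Ideal.Quotient.eq_zero_iff_mem.mpr hx)
  have H' : IsPullback (pullback.fst (pullback.snd f (Spec.map alg)) (zι I))
      (pullback.snd (pullback.snd f (Spec.map alg)) (zι I)) (pullback.snd f (Spec.map alg))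
      (Spec.map (CommRingCat.ofHom (Ideal.Quotient.mk I))) := IsPullback.of_hasPullback _ (zι I)
  have hc := isConstructible_CP Rg H' hOg hEg mg hmg β hβ
  refine ⟨CommRingCat.of (Ag ⧸ I), alg ≫ CommRingCat.ofHom (Ideal.Quotient.mk I), ?_, ?_, ?_⟩
  · rw [Spec.map_comp]
    have h1 : LocallyOfFinitePresentation (Spec.map (CommRingCat.ofHom (Ideal.Quotient.mk I))) :=
      lfp_zι I hfg
    infer_instance
  · refine ⟨CommRingCat.ofHom (Ideal.Quotient.lift I φg.hom hker), ?_⟩
    rw [← hφg, Category.assoc]
    congr 1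
  · have h1 : {t : Spec (CommRingCat.of (Ag ⧸ I)) | CP f E (Spec.map
        ((alg ≫ CommRingCat.ofHom (Ideal.Quotient.mk I)) ≫ κm t))} =
        {t | CP (pullback.snd f (Spec.map alg)) ((Scheme.Modules.pullback
          (pullback.fst f (Spec.map alg))).obj E)
          (Spec.map (CommRingCat.ofHom (Ideal.Quotient.mk I) ≫ κm t))} := by
      ext t
      change CP _ _ _ ↔ CP _ _ _
      rw [CP_baseChange H, ← Spec.map_comp, Category.assoc]
    rw [h1]
    exact hc

include R in
theorem isConstructible_range [IsProper f] [LocallyOfFinitePresentation f] (hO : UO f)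
    (hE : FlatMod.IsFinLocFree E) {Z : Scheme.{u}} (j : Z ⟶ Spec A) [IsPreimmersion j]
    (hj : ∀ (T : Scheme.{u}) (g : T ⟶ Spec A), (∃ g', g' ≫ j = g) ↔ CP f E g) :
    IsConstructible (Set.range j) := by
  refine BasCpt.isConstructible_of_forall fun y => ?_
  obtain ⟨B, φ, h1, ⟨χ, hχ⟩, h2⟩ := exists_stratum_aux R hO hE (K := y.asIdeal.ResidueField) (κm y)
  refine ⟨Set.range (Spec.map φ), ?_, ?_, ?_⟩
  · obtain ⟨pt⟩ : Nonempty (Spec (κ y)) := inferInstance
    refine ⟨(Spec.map χ) pt, ?_⟩
    have h3 := κm_apply y pt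
    rw [← hχ, Spec.map_comp] at h3
    exact h3
  · rw [← Set.image_univ]
    exact (Spec.map φ).isConstructible_image IsConstructible.univ
  · have h3 : Set.range j ∩ Set.range (Spec.map φ) =
        (Spec.map φ) '' {t : Spec B | CP f E (Spec.map (φ ≫ κm t))} := by
      have key : ∀ t : Spec B, (Spec.map φ) t ∈ Set.range j ↔ CP f E (Spec.map (φ ≫ κm t)) := by
        intro t
        rw [← hj]
        constructor
        · intro ht
          refine exists_factor (K := t.asIdeal.ResidueField) j (Spec.map (φ ≫ κm t)) fun z => ?_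
          have h4 : (Spec.map (φ ≫ κm t)) z = (Spec.map φ) t := by
            rw [Spec.map_comp, Scheme.Hom.comp_apply]
            exact congrArg (Spec.map φ) (κm_apply t z)
          rw [h4]
          exact ht
        · rintro ⟨g', hg'⟩
          obtain ⟨pt⟩ : Nonempty (Spec (κ t)) := inferInstance
          refine ⟨g' pt, ?_⟩
          rw [← Scheme.Hom.comp_apply, hg', Spec.map_comp, Scheme.Hom.comp_apply]
          exact congrArg (Spec.map φ) (κm_apply t pt)
      ext s
      constructor
      · rintro ⟨hs, t, rfl⟩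
        exact ⟨t, (key t).1 hs, rfl⟩
      · rintro ⟨t, ht, rfl⟩
        exact ⟨(key t).2 ht, t, rfl⟩
    rw [h3]
    exact (Spec.map φ).isConstructible_image h2

/-- The immersion representing the descent condition is quasi-compact. -/
theorem quasiCompact_of_forall {X S : Scheme.{u}} (f : X ⟶ S) [IsProper f]
    [LocallyOfFinitePresentation f] (hO : UO f) {E : X.Modules} (hE : FlatMod.IsFinLocFree E)
    (hR : ∀ (A : CommRingCat.{u}) (j : Spec A ⟶ S), IsOpenImmersion j →
      Nonempty (RepH0 (pullback.snd f j) ((Scheme.Modules.pullback (pullback.fst f j)).obj E)))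
    {Z : Scheme.{u}} (j : Z ⟶ S) [IsPreimmersion j]
    (hj : ∀ (T : Scheme.{u}) (g : T ⟶ S), (∃ g', g' ≫ j = g) ↔ CP f E g) : QuasiCompact j := by
  have key : ∀ (A : CommRingCat.{u}) (i : Spec A ⟶ S), IsOpenImmersion i →
      CompactSpace ↥(pullback j i) := by
    intro A i hi
    obtain ⟨R⟩ := hR A i hi
    have H := IsPullback.of_hasPullback f i
    have h1 := isConstructible_range (f := pullback.snd f i) R (hO.baseChange H)
      (isFinLocFree_pullback' _ hE) (pullback.snd j i) (fun T g => by
        rw [CP_baseChange H, ← hj]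
        constructor
        · rintro ⟨g', rfl⟩
          exact ⟨g' ≫ pullback.fst j i, by rw [Category.assoc, pullback.condition, Category.assoc]⟩
        · rintro ⟨g', hg'⟩
          exact ⟨pullback.lift g' g hg', pullback.lift_snd _ _ _⟩)
    have h2 := BasCpt.isCompact_of_isConstructible h1
    have h3 : IsEmbedding (pullback.snd j i) := (pullback.snd j i).isEmbedding
    rw [← Set.image_univ, ← h3.isInducing.isCompact_iff] at h2
    exact ⟨h2⟩
  refine IsZariskiLocalAtTarget.of_openCover (P := @QuasiCompact) S.affineCover fun i => ?_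
  exact (quasiCompact_iff_compactSpace (pullback.snd j (S.affineCover.f i))).mpr
    (key _ (S.affineCover.f i) (S.affineCover.map_prop i))

end K248.DescQC
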