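import Groth.Agent.PicF.K248.BCInv
import Groth.Agent.PicF.K248.Descend
import Groth.Agent.PicF.K248.H0One
import Groth.Agent.CurvesB.HZero
import Groth.Agent.Fga.EtTriv
import Groth.Agent.Grpsch.CubeClosed
import Groth.Agent.Grpsch.CubePush
import Groth.Agent.Ega2.Nv

/-!
# Invertible modules on proper flat families with geometrically integral fibres
-/

set_option autoImplicit false
universe u

open CategoryTheory CategoryTheory.Limits AlgebraicGeometry
open Groth.Agent.Fdesc.LocGen Groth.Agent.Grpsch Groth.Agent.Grpsch.CubeData K248.BC0 K248.BCInv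

namespace K248.GiDesc

/-- A scheme whose structure morphism to a field induces an isomorphism on functions. -/
theorem isField_of_isIso {K : Type u} [Field K] {X : Scheme.{u}} (f : X ⟶ Spec (CommRingCat.of K))
    (h : IsIso f.appTop) : IsField Γ(X, ⊤) := by
  let e : CommRingCat.of K ≅ Γ(X, ⊤) := (Scheme.ΓSpecIso (CommRingCat.of K)).symm ≪≫
    @asIso _ _ _ _ f.appTop h
  exact e.commRingCatIsoToRingEquiv.symm.toMulEquiv.isField (Field.toIsField K)

/-- A nonzero section of a trivial module over a scheme whose functions form a field generates. -/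
theorem isGen_of_ne_zero {X : Scheme.{u}} (hF : IsField Γ(X, ⊤)) {L : X.Modules} (hL : Triv L)
    {m : Γ(L, ⊤)} (hm : m ≠ 0) : IsGen m := by
  obtain ⟨e, he⟩ := triv_iff.1 hL
  obtain ⟨a, ha⟩ := he.exists_eq m
  have ha0 : a ≠ 0 := by
    rintro rfl
    exact hm (by rw [ha, zero_smul])
  obtain ⟨b, hb⟩ := hF.mul_inv_cancel ha0
  rw [ha]
  exact he.unit_smul (IsUnit.of_mul_eq_one b hb)

section

variable {X S : Scheme.{u}} (f : X ⟶ S) [IsProper f] [Flat f] [LocallyOfFinitePresentation f]
    [GeometricallyIntegral f]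

theorem isIso_app_fibre (s : S) (U : (Spec (S.residueField s)).Opens) :
    IsIso ((f.fiberToSpecResidueField s).app U) := by
  have h1 : IsProper (f.fiberToSpecResidueField s) :=
    inferInstanceAs (IsProper (pullback.snd f (S.fromSpecResidueField s)))
  have h2 : Flat (f.fiberToSpecResidueField s) :=
    inferInstanceAs (Flat (pullback.snd f (S.fromSpecResidueField s)))
  have h3 : LocallyOfFinitePresentation (f.fiberToSpecResidueField s) :=
    inferInstanceAs (LocallyOfFinitePresentation (pullback.snd f (S.fromSpecResidueField s)))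
  have h4 : GeometricallyIntegral (f.fiberToSpecResidueField s) :=
    inferInstanceAs (GeometricallyIntegral (pullback.snd f (S.fromSpecResidueField s)))
  exact Groth.Agent.Grpsch.CubeData.isIso_app (f.fiberToSpecResidueField s) U

theorem isField_fibre (s : S) : IsField Γ(f.fiber s, ⊤) :=
  isField_of_isIso (f.fiberToSpecResidueField s) (isIso_app_fibre f s ⊤)

/-- `L` comes from the base if `L` and `M` have nonzero sections on the fibres and the base change morphisms of `L`
are nonzero. -/
theorem exists_gen {L M : X.Modules} (hL : PicF.IsInvertible L) (hM : PicF.IsInvertible M)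
    (e : CohB1.tensorMod L M ≅ Coh.structureModule X) (s : S)
    (h1 : Nontrivial (CohIII.fiberH f L s 0)) (h2 : Nontrivial (CohIII.fiberH f M s 0))
    (h3 : Epi (CohBC.bc0 f (S.fromSpecResidueField s) (f.fiberToSpecResidueField s) (f.fiberι s)
      (f.fiber_fac s) L)) :
    ∃ (V : S.Opens) (n : Γ(L, f ⁻¹ᵁ V)), s ∈ V ∧ IsGen n := by
  have hLs := isInvertible_pullback (f.fiberι s) hL
  have hMs := isInvertible_pullback (f.fiberι s) hM
  have hF := isField_fibre f s
  obtain ⟨x, hx⟩ := exists_ne (0 : CohIII.fiberH f L s 0)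
  obtain ⟨y, hy⟩ := exists_ne (0 : CohIII.fiberH f M s 0)
  let eL := Groth.Agent.CurvesB.HZero.equivAdd (CohIII.fiberMod f L s)
  let eM := Groth.Agent.CurvesB.HZero.equivAdd (CohIII.fiberMod f M s)
  have hx' : eL x ≠ 0 := fun h => hx (eL.injective (h.trans (map_zero _).symm))
  have hy' : eM y ≠ 0 := fun h => hy (eM.injective (h.trans (map_zero _).symm))
  have hmul : PicGrp.mk _ hLs * PicGrp.mk _ hMs = 1 := by
    have h0 : PicGrp.mk L hL * PicGrp.mk M hM = 1 := (PicGrp.mk_eq_one_iff _).2 ⟨e⟩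
    have := congrArg (PicGrp.pull (f.fiberι s)) h0
    rwa [map_mul, map_one] at this
  have hint : IsIntegral (f.fiber s) := inferInstance
  have htriv : Triv (CohIII.fiberMod f L s) :=
    (PicGrp.mk_eq_one_iff hLs).1 (CubeClosed.eq_one_of_sections hF hLs hMs hmul _ hx' _ hy')
  -- the base change morphism is nonzero
  have hne : CohBC.bc0 f (S.fromSpecResidueField s) (f.fiberToSpecResidueField s) (f.fiberι s)
      (f.fiber_fac s) L ≠ 0 := by
    intro h0
    have hz : 𝟙 ((Scheme.Modules.pushforward (f.fiberToSpecResidueField s)).obj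
        (CohIII.fiberMod f L s)) = 0 := by
      rw [← cancel_epi (CohBC.bc0 f (S.fromSpecResidueField s) (f.fiberToSpecResidueField s)
        (f.fiberι s) (f.fiber_fac s) L), h0, zero_comp, zero_comp]
    apply hx'
    have h4 := congrArg (fun φ : (Scheme.Modules.pushforward (f.fiberToSpecResidueField s)).obj
        (CohIII.fiberMod f L s) ⟶ _ => φ.app ⊤ (toPush _ _ ⊤ (eL x))) hz
    exact h4
  obtain ⟨V, n, hn⟩ := exists_pullSec_ne_zero _ _ _ _ _ _ hne
  have hsV : s ∈ V := by
    by_contra hs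
    apply hn
    have hbot : f.fiberι s ⁻¹ᵁ (f ⁻¹ᵁ V) = ⊥ := by
      refine le_antisymm (fun z hz => ?_) bot_le
      apply hs
      have h5 : f (f.fiberι s z) = s := (f.fiberHomeo s z).2
      have h8 : f (f.fiberι s z) ∈ V := hz
      rwa [h5] at h8
    exact res_ext _ (ι := PEmpty.{1}) (fun i => i.elim) (fun i => i.elim)
      (by rw [hbot]; exact bot_le) (fun i => i.elim)
  have htop : f.fiberι s ⁻¹ᵁ (f ⁻¹ᵁ V) = ⊤ := by
    refine le_antisymm le_top (fun z _ => ?_)
    have h5 : f (f.fiberι s z) = s := (f.fiberHomeo s z).2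
    change f (f.fiberι s z) ∈ V
    rw [h5]; exact hsV
  have hgen : IsGen (pullSec (f.fiberι s) n) := by
    have h6 : res _ htop.ge (pullSec (f.fiberι s) n) ≠ 0 := by
      intro h0
      apply hn
      have := congrArg (res _ htop.le) h0
      rwa [res_res, res_refl, map_zero] at this
    have h7 := (isGen_of_ne_zero hF htriv h6).res htop.le
    rwa [res_res, res_refl] at h7
  -- spread out
  have hnv : ∀ x : X, f x = s → x ∈ Groth.Agent.Ega2.Nv.nv L n := by
    intro x hx
    obtain ⟨z, rfl⟩ : x ∈ Set.range (f.fiberι s) := by rw [f.range_fiberι]; exact hx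
    obtain ⟨U₁, h₁, hz, hg⟩ := Groth.Agent.Fga.EtTriv.exists_isGen_of_pull (f.fiberι s) L hL n z
      (by change z ∈ f.fiberι s ⁻¹ᵁ (f ⁻¹ᵁ V); rw [htop]; trivial) _ le_rfl
      (by rw [htop]; trivial) (hgen.res le_rfl)
    exact (Groth.Agent.Ega2.Nv.le_nv_iff L n h₁).2 hg hz
  have hcl : IsClosed (f '' ((Groth.Agent.Ega2.Nv.nv L n : Set X)ᶜ)) :=
    f.isClosedMap _ (Groth.Agent.Ega2.Nv.nv L n).isOpen.isClosed_compl
  let V' : S.Opens := ⟨(f '' ((Groth.Agent.Ega2.Nv.nv L n : Set X)ᶜ))ᶜ, hcl.isOpen_compl⟩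
  have hV' : f ⁻¹ᵁ V' ≤ Groth.Agent.Ega2.Nv.nv L n := by
    intro x hx
    by_contra hxn
    exact hx ⟨x, hxn, rfl⟩
  refine ⟨V', res L (hV'.trans (Groth.Agent.Ega2.Nv.nv_le L n)) n, ?_, ?_⟩
  · rintro ⟨x, hx, hxs⟩
    exact hx (hnv x hxs)
  · exact (Groth.Agent.Ega2.Nv.le_nv_iff L n (hV'.trans (Groth.Agent.Ega2.Nv.nv_le L n))).1 hV'

/-- Modules from the base: sections on the fibres and base change. -/
theorem fibre_of_pull {N : X.Modules} {N₀ : S.Modules} (hN₀ : PicF.IsInvertible N₀)
    (e : (Scheme.Modules.pullback f).obj N₀ ≅ N) (s : S) :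
    Nontrivial (CohIII.fiberH f N s 0) ∧ CohIII.fiberRank f N 0 s = 1 ∧
      IsIso (CohBC.bc0 f (S.fromSpecResidueField s) (f.fiberToSpecResidueField s) (f.fiberι s)
        (f.fiber_fac s) N) := by
  obtain ⟨g, hg⟩ := triv_iff.1 (K248.Descend.triv_fibre_of_pull f hN₀ e s)
  let eN := Groth.Agent.CurvesB.HZero.equivAdd (CohIII.fiberMod f N s)
  have hF := isField_fibre f s
  have hg0 : g ≠ 0 := by
    intro h0
    have : Nontrivial Γ(f.fiber s, ⊤) := hF.nontrivial
    refine one_ne_zero (α := Γ(f.fiber s, ⊤)) (hg.ext ?_)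
    rw [h0, smul_zero, smul_zero]
  have hv : eN.symm g ≠ 0 := fun h => hg0 (by
    have := congrArg eN h
    rwa [AddEquiv.apply_symm_apply, map_zero] at this)
  refine ⟨⟨⟨eN.symm g, 0, hv⟩⟩, ?_, ?_⟩
  · refine finrank_eq_one (eN.symm g) hv fun w => ?_
    obtain ⟨a, ha⟩ := hg.exists_eq (eN w)
    have hb : Function.Bijective (Coh.toGlobal (X := f.fiber s) (A := S.residueField s)
        (f.fiberToSpecResidueField s)) := by
      have h1 : IsIso (f.fiberToSpecResidueField s).appTop := isIso_app_fibre f s ⊤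
      have h2 : IsIso ((Scheme.ΓSpecIso (S.residueField s)).inv ≫
        (f.fiberToSpecResidueField s).appTop) := inferInstance
      exact (ConcreteCategory.isIso_iff_bijective ((Scheme.ΓSpecIso (S.residueField s)).inv ≫
        (f.fiberToSpecResidueField s).appTop)).1 h2
    obtain ⟨c, rfl⟩ := hb.2 a
    refine ⟨c, eN.injective ?_⟩
    rw [ha]
    refine (Groth.Agent.CurvesB.HZero.equivAdd_smul (CohIII.fiberMod f N s) _ _).trans ?_
    rw [AddEquiv.apply_symm_apply]
    rfl
  · exact isIso_bc0_of_isGen _ _ _ _ _ _ (fun U => Groth.Agent.Grpsch.CubeData.isIso_app f U)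
      (isIso_app_fibre f s) (fun s' => exists_isGen_of_pull f hN₀ e _)

end

end K248.GiDesc
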